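import Cfsg.Agent.Lib.SuzRank3.Graph

/-!
The existence of coordinates and the uniqueness of the graph.
-/

set_option autoImplicit false
set_option linter.style.haveILetI false

namespace Cfsg.Agent.Lib.SuzRank3

open MulAction Finset
open scoped Pointwise

variable {G V : Type*} [Group G] [MulAction G V]

theorem Facts.mem_cover {L : Subgroup (Equiv.Perm V0)} (F : Facts L) (x : V0) :
    x = 0 ∨ x ∈ orbit L F.q1 ∨ x ∈ orbit L F.q2 := by
  have hd : Disjoint (orbit L F.q1) (orbit L F.q2) := by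
    rw [Set.disjoint_left]
    intro z h1 h2
    have h := F.card1
    rw [← orbit_eq_iff.2 h1, orbit_eq_iff.2 h2, F.card2] at h
    omega
  have h0 : ∀ q : V0, (orbit L q).ncard ≠ 1 → (0 : V0) ∉ orbit L q := fun q hq h => hq (by
    rw [← orbit_eq_iff.2 h, Set.ncard_eq_one]
    exact ⟨0, Set.ext fun z => ⟨fun ⟨l, hl⟩ => by rw [← hl]; exact F.fix0 l.1 l.2,
      fun hz => by rw [hz]; exact mem_orbit_self _⟩⟩)
  have hu : insert (0 : V0) (orbit L F.q1 ∪ orbit L F.q2) = Set.univ := by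
    refine Set.eq_of_subset_of_ncard_le (Set.subset_univ _) ?_ Set.finite_univ
    rw [Set.ncard_insert_of_notMem (fun h => h.elim (h0 _ (by rw [F.card1]; norm_num))
        (h0 _ (by rw [F.card2]; norm_num))), Set.ncard_union_eq hd, Set.ncard_univ, F.card1,
      F.card2]
    simp
  have := hu.symm ▸ Set.mem_univ x
  simpa using this

theorem card_orbit_mul {K X : Type*} [Group K] [MulAction K X] (x : X) :
    (orbit K x).ncard * Nat.card (stabilizer K x) = Nat.card K := by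
  rw [← Nat.card_coe_set_eq, ← Nat.card_prod]
  exact Nat.card_congr (orbitProdStabilizerEquivGroup K x)

namespace Setup

variable {L : Subgroup (Equiv.Perm V0)} (F : Facts L) (S : Setup L G V)

/-- the action of `L` on the points through the identification -/
def hom : L →* G := (stabilizer G S.a).subtype.comp S.ψ.toMonoidHom

theorem hom_fix (l : L) : S.hom l • S.a = S.a := (S.ψ l).2

theorem adj_hom (l : L) {x y : V} : S.Adj (S.hom l • x) (S.hom l • y) ↔ S.Adj x y :=
  S.adj_smul _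

include F in
theorem card_stab_pull {d : V} {k n : ℕ} (hd : (orbit (stabilizer G S.a) d).ncard = k)
    (hk : k * n = 251596800) (h : 0 < k) :
    Nat.card ((stabilizer (stabilizer G S.a) d).comap S.ψ.toMonoidHom) = n := by
  have h1 : Nat.card ((stabilizer (stabilizer G S.a) d).comap S.ψ.toMonoidHom) =
      Nat.card (stabilizer (stabilizer G S.a) d) :=
    Nat.card_congr
      { toFun := fun x => ⟨S.ψ x.1, x.2⟩
        invFun := fun x => ⟨S.ψ.symm x.1, by
          show S.ψ (S.ψ.symm x.1) ∈ stabilizer (stabilizer G S.a) d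
          rw [S.ψ.apply_symm_apply]; exact x.2⟩
        left_inv := fun x => Subtype.ext (S.ψ.symm_apply_apply _)
        right_inv := fun x => Subtype.ext (S.ψ.apply_symm_apply _) }
  have h2 := card_orbit_mul (K := stabilizer G S.a) d
  rw [hd, ← Nat.card_congr S.ψ.toEquiv, show Nat.card L = 251596800 from F.card, ← hk] at h2
  rw [h1]
  exact Nat.eq_of_mul_eq_mul_left h h2

/-- moving the representative of an orbit -/
theorem exists_rep {d : V} {q : V0} {l : L}
    (h : (stabilizer (stabilizer G S.a) d).comap S.ψ.toMonoidHom = stabilizer L (l • q)) :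
    ∀ k : L, k • q = q ↔ S.hom k • (S.hom l⁻¹ • d) = S.hom l⁻¹ • d := by
  intro k
  have h1 := SetLike.ext_iff.1 h (l * k * l⁻¹)
  rw [Subgroup.mem_comap, mem_stabilizer_iff, mem_stabilizer_iff, ← mul_smul,
    inv_mul_cancel_right, mul_smul, smul_left_cancel_iff] at h1
  rw [← h1]
  show S.hom (l * k * l⁻¹) • d = d ↔ _
  rw [map_mul, map_mul, mul_smul, mul_smul]
  conv_rhs => rw [eq_comm, map_inv, inv_smul_eq_iff, eq_comm, ← map_inv]

theorem coord_exists : Nonempty (Coord F S) := by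
  classical
  haveI := S.finite
  haveI := S.trans
  -- the small suborbit
  obtain ⟨l1, hl1⟩ := F.sub416 _ (S.card_stab_pull F S.hb (n := 604800) (by norm_num) (by norm_num))
  set b' := S.hom l1⁻¹ • S.b with hb'def
  have hb'mem : b' ∈ orbit (stabilizer G S.a) S.b := ⟨S.ψ l1⁻¹, rfl⟩
  obtain ⟨f1, hf1⟩ := exists_orbitMap S.hom F.q1 b' (S.exists_rep hl1)
  have hrange : ∀ {d : V} (f : V0 → V) (q : V0),
      (∀ l : L, f (l • q) = S.hom l • d) →
      ∀ z, z ∈ orbit (stabilizer G S.a) d ↔ ∃ x ∈ orbit L q, f x = z := by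
    intro d f q hf z
    constructor
    · rintro ⟨g, rfl⟩
      refine ⟨S.ψ.symm g • q, mem_orbit _ _, ?_⟩
      rw [hf]
      show ((S.ψ (S.ψ.symm g)) : G) • d = _
      rw [S.ψ.apply_symm_apply]; rfl
    · rintro ⟨x, ⟨l, rfl⟩, rfl⟩
      show f (l • q) ∈ _
      rw [hf]
      exact ⟨S.ψ l, rfl⟩
  have hinjOn : ∀ {d : V} (f : V0 → V) (q : V0),
      (∀ k : L, k • q = q ↔ S.hom k • d = d) → (∀ l : L, f (l • q) = S.hom l • d) →
      Set.InjOn f (orbit L q) := by
    rintro d f q hst hf _ ⟨k, rfl⟩ _ ⟨j, rfl⟩ he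
    change f (k • q) = f (j • q) at he
    rw [hf, hf, eq_comm, ← inv_smul_eq_iff, ← mul_smul, ← map_inv, ← map_mul, ← hst, mul_smul,
      inv_smul_eq_iff] at he
    exact he.symm
  have i1 : Set.InjOn f1 (orbit L F.q1) := hinjOn f1 _ (S.exists_rep hl1) hf1
  have heq1 : ∀ x ∈ orbit L F.q1, ∀ l : L, f1 (l • x) = S.hom l • f1 x := by
    rintro _ ⟨k, rfl⟩ l
    show f1 (l • k • F.q1) = _ • f1 (k • F.q1)
    rw [smul_smul, hf1, hf1, map_mul, mul_smul]
  have hf1q : f1 F.q1 = b' := by simpa using hf1 1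
  have hN1 : ∀ z, S.Adj S.a z ↔ ∃ x ∈ orbit L F.q1, f1 x = z := fun z => by
    rw [S.adj_base, ← orbit_eq_iff.2 hb'mem]; exact hrange f1 F.q1 hf1 z
  have hab' : S.Adj S.a b' := S.adj_base.2 hb'mem
  -- the common neighbours
  set T : Set V0 := {x | x ∈ orbit L F.q1 ∧ S.Adj b' (f1 x)} with hTdef
  have hTsub : T ⊆ orbit L F.q1 \ {F.q1} := fun x hx => ⟨hx.1, fun e =>
    S.adj_ne hx.2 (by rw [Set.mem_singleton_iff.1 e, hf1q])⟩
  have hTinv : ∀ h ∈ stabilizer L F.q1, ∀ x ∈ T, h • x ∈ T := by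
    intro h hh x hx
    refine ⟨orbit_eq_iff.2 hx.1 ▸ mem_orbit x h, ?_⟩
    have hh' : S.hom h • b' = b' := (S.exists_rep hl1 h).1 hh
    have := (S.adj_hom h).2 hx.2
    rw [hh'] at this
    rwa [heq1 x hx.1 h]
  have hstab : ∀ {q : V0} {f : V0 → V}, (∀ x ∈ orbit L q, ∀ l : L, f (l • x) = S.hom l • f x) →
      ∀ l : L, ∀ x ∈ orbit L q, ∀ z, S.Adj z (f x) ↔ S.Adj (S.hom l • z) (f (l • x)) := by
    intro q f hf l x hx z
    rw [hf x hx l]
    exact (S.adj_hom l).symm
  -- the large suborbit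
  have hH2 := S.card_stab_pull F S.hc (n := 184320) (by norm_num) (by norm_num)
  -- counting edges between the two suborbits
  haveI := Fintype.ofFinite V
  let N1 : Finset V := univ.filter fun z => z ∈ orbit (stabilizer G S.a) S.b
  let N2 : Finset V := univ.filter fun z => z ∈ orbit (stabilizer G S.a) S.c
  set μ := {z | S.Adj S.a z ∧ S.Adj S.c z}.ncard with hμ
  have hcard : ∀ p : V → Prop, {w | p w}.ncard = (univ.filter p).card := fun p => by
    rw [← Set.ncard_coe_finset]; congr 1; ext; simp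
  have hTcard : {z | S.Adj S.a z ∧ S.Adj b' z}.ncard = T.ncard := by
    rw [← Set.ncard_image_of_injOn (i1.mono fun x hx => hx.1 : Set.InjOn f1 T)]
    refine congrArg Set.ncard (Set.ext fun z => ⟨fun hz => ?_, ?_⟩)
    · obtain ⟨x, hx, rfl⟩ := (hN1 z).1 hz.1
      exact ⟨x, ⟨hx, hz.2⟩, rfl⟩
    · rintro ⟨x, hx, rfl⟩
      exact ⟨(hN1 _).2 ⟨x, hx.1, rfl⟩, hx.2⟩
  have row : ∀ z ∈ N1, (N2.filter fun w => S.Adj z w).card + T.ncard + 1 = 416 := by
    intro z hz
    obtain ⟨g, hg⟩ := (mem_orbit_iff).1 (orbit_eq_iff.2 hb'mem ▸ (mem_filter.1 hz).2 :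
      z ∈ orbit (stabilizer G S.a) b')
    have hzz : z = g.1 • b' := hg.symm
    have e1 : {w | S.Adj S.a w ∧ S.Adj z w}.ncard = T.ncard := by
      rw [← hTcard, ← Set.ncard_image_of_injective {v | S.Adj S.a v ∧ S.Adj b' v}
        (MulAction.injective g.1)]
      refine congrArg Set.ncard (Set.ext fun w => ⟨fun hw => ?_, ?_⟩)
      · refine ⟨g.1⁻¹ • w, ⟨?_, ?_⟩, smul_inv_smul _ _⟩
        · have := (S.adj_smul g.1⁻¹).2 hw.1
          rwa [show g.1⁻¹ • S.a = S.a from inv_smul_eq_iff.2 g.2.symm] at this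
        · have := (S.adj_smul g.1⁻¹).2 hw.2
          rwa [hzz, inv_smul_smul] at this
      · rintro ⟨v, hv, rfl⟩
        refine ⟨?_, ?_⟩
        · have := (S.adj_smul g.1).2 hv.1
          rwa [show g.1 • S.a = S.a from g.2] at this
        · rw [hzz]; exact (S.adj_smul g.1).2 hv.2
    have hza : S.Adj z S.a := S.adj_symm (S.adj_base.2 (mem_filter.1 hz).2)
    have hsplit : (univ.filter fun w => S.Adj z w) =
        insert S.a ((N2.filter fun w => S.Adj z w) ∪
          (univ.filter fun w => S.Adj S.a w ∧ S.Adj z w)) := by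
      ext w
      simp only [mem_filter, mem_univ, true_and, mem_insert, mem_union, N2]
      constructor
      · intro h
        rcases S.cover w with e | e | e
        · exact Or.inl e
        · exact Or.inr (Or.inr ⟨S.adj_base.2 e, h⟩)
        · exact Or.inr (Or.inl ⟨e, h⟩)
      · rintro (rfl | ⟨-, h⟩ | ⟨-, h⟩)
        · exact hza
        · exact h
        · exact h
    have h416 := S.adj_out z
    rw [hcard, hsplit, card_insert_of_notMem, card_union_of_disjoint] at h416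
    · have e2 : (univ.filter fun w => S.Adj S.a w ∧ S.Adj z w).card = T.ncard := by
        rw [← e1, ← Set.ncard_coe_finset]
        congr 1
        ext
        simp
      omega
    · refine Finset.disjoint_left.2 fun w h1 h2 => ?_
      simp only [mem_filter, mem_univ, true_and, N2] at h1 h2
      exact Set.disjoint_left.1 S.disjoint_orbits (S.adj_base.1 h2.1) h1.1
    · intro h
      simp only [mem_filter, mem_univ, true_and, mem_union, N2] at h
      rcases h with h | h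
      · exact S.not_mem_orbit (by rw [S.hc]; norm_num) h.1
      · exact S.adj_ne h.1 rfl
  have col : ∀ w ∈ N2, (N1.filter fun z => S.Adj z w).card = μ := by
    intro w hw
    obtain ⟨g, rfl⟩ := (mem_filter.1 hw).2
    rw [hμ, ← Set.ncard_image_of_injective _ (MulAction.injective g.1), ← Set.ncard_coe_finset]
    refine congrArg Set.ncard (Set.ext fun z => ?_)
    simp only [coe_filter, mem_filter, mem_univ, true_and, N1, Set.mem_setOf_eq, Set.mem_image]
    constructor
    · intro h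
      refine ⟨g.1⁻¹ • z, ⟨?_, ?_⟩, smul_inv_smul _ _⟩
      · have := (S.adj_smul g.1⁻¹).2 (S.adj_base.2 h.1)
        rwa [show g.1⁻¹ • S.a = S.a from inv_smul_eq_iff.2 g.2.symm] at this
      · rw [S.adj_comm, ← S.adj_smul g.1, smul_inv_smul]
        exact h.2
    · rintro ⟨v, hv, rfl⟩
      refine ⟨S.adj_base.1 ?_, (S.adj_smul g.1).2 (S.adj_symm hv.2)⟩
      have := (S.adj_smul g.1).2 hv.1
      rwa [show g.1 • S.a = S.a from g.2] at this
  have hn1 : N1.card = 416 := by rw [← S.hb, ← Set.ncard_coe_finset]; congr 1; ext; simp [N1]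
  have hn2 : N2.card = 1365 := by rw [← S.hc, ← Set.ncard_coe_finset]; congr 1; ext; simp [N2]
  have hsum : 416 * (415 - T.ncard) = 1365 * μ := by
    have h := sum_card_bipartiteAbove_eq_sum_card_bipartiteBelow (s := N1) (t := N2) S.Adj
    simp only [bipartiteAbove, bipartiteBelow] at h
    rw [sum_congr rfl fun z hz => show _ = 415 - T.ncard by have := row z hz; omega,
      sum_congr rfl col, sum_const, sum_const, hn1, hn2, smul_eq_mul, smul_eq_mul] at h
    exact h
  obtain ⟨hT100, hTeq⟩ : T.ncard = 100 ∧ T = orbit (stabilizer L F.q1) F.q100 := by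
    rcases F.sub100 T hTsub hTinv with h | h | h | h
    · rw [h] at hsum; omega
    · rw [h] at hsum; omega
    · exfalso
      have hclosed := S.closed_card (B := insert S.a (orbit (stabilizer G S.a) S.b))
        (Set.mem_insert _ _) ?_ ?_
      · rw [Set.ncard_insert_of_notMem (S.not_mem_orbit (by rw [S.hb]; norm_num)), S.hb] at hclosed
        norm_num at hclosed
      · intro x hx y hxy
        rcases hx with rfl | hx
        · exact Set.mem_insert_of_mem _ (S.adj_base.1 hxy)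
        · rcases S.cover y with e | e | e
          · exact e ▸ Set.mem_insert _ _
          · exact Set.mem_insert_of_mem _ e
          · exfalso
            have h1 := row x (mem_filter.2 ⟨mem_univ _, hx⟩)
            rw [h] at h1
            have : (N2.filter fun w => S.Adj x w).card = 0 := by omega
            exact (Finset.card_eq_zero.1 this ▸ Finset.notMem_empty y)
              (mem_filter.2 ⟨mem_filter.2 ⟨mem_univ _, e⟩, hxy⟩)
      · intro x hx y hy hne
        rcases hx with rfl | hx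
        · exact S.adj_base.2 (hy.resolve_left (Ne.symm hne))
        rcases hy with rfl | hy
        · exact S.adj_symm (S.adj_base.2 hx)
        have hT' : T = orbit L F.q1 \ {F.q1} := by
          refine Set.eq_of_subset_of_ncard_le hTsub ?_ (Set.toFinite _)
          rw [Set.ncard_diff (Set.singleton_subset_iff.2 (mem_orbit_self _)), F.card1,
            Set.ncard_singleton, h]
        obtain ⟨u, hu, rfl⟩ := (hN1 x).1 (S.adj_base.2 hx)
        obtain ⟨v, hv, rfl⟩ := (hN1 y).1 (S.adj_base.2 hy)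
        obtain ⟨k, rfl⟩ := hu
        obtain ⟨w, hw, rfl⟩ : ∃ w ∈ orbit L F.q1, k • w = v :=
          ⟨k⁻¹ • v, orbit_eq_iff.2 hv ▸ mem_orbit v k⁻¹, smul_inv_smul k v⟩
        show S.Adj (f1 (k • F.q1)) _
        rw [heq1 _ (mem_orbit_self _) k, heq1 _ hw k, S.adj_hom, hf1q]
        have hmem : w ∈ T := by
          rw [hT']
          refine ⟨hw, fun e => hne ?_⟩
          rw [Set.mem_singleton_iff.1 e]
        exact hmem.2
    · exact h
  have hμ96 : μ = 96 := by rw [hT100] at hsum; omega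
  obtain ⟨l2, hl2⟩ : ∃ l : L,
      (stabilizer (stabilizer G S.a) S.c).comap S.ψ.toMonoidHom = stabilizer L (l • F.q2) := by
    refine (F.sub1365 _ hH2).resolve_right fun hno => ?_
    refine hno {x | x ∈ orbit L F.q1 ∧ S.Adj S.c (f1 x)} (fun x hx => hx.1) ?_ ?_
    · intro h hh x hx
      refine ⟨orbit_eq_iff.2 hx.1 ▸ mem_orbit x h, ?_⟩
      have := (hstab heq1 h x hx.1 S.c).1 hx.2
      rwa [show S.hom h • S.c = S.c from hh] at this
    · rw [← hμ96, hμ, ← Set.ncard_image_of_injOn (i1.mono fun x hx => hx.1)]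
      refine congrArg Set.ncard (Set.ext fun z => ⟨?_, fun hz => ?_⟩)
      · rintro ⟨x, hx, rfl⟩
        exact ⟨(hN1 _).2 ⟨x, hx.1, rfl⟩, hx.2⟩
      · obtain ⟨x, hx, rfl⟩ := (hN1 z).1 hz.1
        exact ⟨x, ⟨hx, hz.2⟩, rfl⟩
  set c' := S.hom l2⁻¹ • S.c with hc'def
  have hc'mem : c' ∈ orbit (stabilizer G S.a) S.c := ⟨S.ψ l2⁻¹, rfl⟩
  obtain ⟨f2, hf2⟩ := exists_orbitMap S.hom F.q2 c' (S.exists_rep hl2)
  have i2 : Set.InjOn f2 (orbit L F.q2) := hinjOn f2 _ (S.exists_rep hl2) hf2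
  have heq2 : ∀ x ∈ orbit L F.q2, ∀ l : L, f2 (l • x) = S.hom l • f2 x := by
    rintro _ ⟨k, rfl⟩ l
    show f2 (l • k • F.q2) = _ • f2 (k • F.q2)
    rw [smul_smul, hf2, hf2, map_mul, mul_smul]
  have hf2q : f2 F.q2 = c' := by simpa using hf2 1
  have hN2 : ∀ z, z ∈ orbit (stabilizer G S.a) S.c ↔ ∃ x ∈ orbit L F.q2, f2 x = z := fun z => by
    rw [← orbit_eq_iff.2 hc'mem]; exact hrange f2 F.q2 hf2 z
  -- the neighbours of `c'`
  set T1 : Set V0 := {x | x ∈ orbit L F.q1 ∧ S.Adj c' (f1 x)} with hT1def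
  have hT1card : {z | S.Adj S.a z ∧ S.Adj c' z}.ncard = 96 := by
    rw [← hμ96, hμ, ← Set.ncard_image_of_injective
      {z | S.Adj S.a z ∧ S.Adj S.c z} (MulAction.injective (S.hom l2⁻¹))]
    refine congrArg Set.ncard (Set.ext fun z => ⟨fun hz => ?_, ?_⟩)
    · refine ⟨S.hom l2 • z, ⟨?_, ?_⟩, by simp [map_inv]⟩
      · have := (S.adj_hom l2).2 hz.1
        rwa [S.hom_fix] at this
      · have := (S.adj_hom l2).2 hz.2
        rwa [hc'def, map_inv, smul_inv_smul] at this
    · rintro ⟨w, hw, rfl⟩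
      refine ⟨?_, (S.adj_hom _).2 hw.2⟩
      have := (S.adj_hom l2⁻¹).2 hw.1
      rwa [S.hom_fix] at this
  have hT1n : T1.ncard = 96 := by
    rw [← hT1card, ← Set.ncard_image_of_injOn (i1.mono fun x hx => hx.1)]
    refine congrArg Set.ncard (Set.ext fun z => ⟨?_, fun hz => ?_⟩)
    · rintro ⟨x, hx, rfl⟩
      exact ⟨(hN1 _).2 ⟨x, hx.1, rfl⟩, hx.2⟩
    · obtain ⟨x, hx, rfl⟩ := (hN1 z).1 hz.1
      exact ⟨x, ⟨hx, hz.2⟩, rfl⟩
  have hT1inv : ∀ h ∈ stabilizer L F.q2, ∀ x ∈ T1, h • x ∈ T1 := by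
    intro h hh x hx
    refine ⟨orbit_eq_iff.2 hx.1 ▸ mem_orbit x h, ?_⟩
    have := (hstab heq1 h x hx.1 c').1 hx.2
    rwa [(S.exists_rep hl2 h).1 hh] at this
  have hT1eq := F.sub96 T1 (fun x hx => hx.1) hT1inv hT1n
  set T2 : Set V0 := {x | x ∈ orbit L F.q2 ∧ S.Adj c' (f2 x)} with hT2def
  have hT2inv : ∀ h ∈ stabilizer L F.q2, ∀ x ∈ T2, h • x ∈ T2 := by
    intro h hh x hx
    refine ⟨orbit_eq_iff.2 hx.1 ▸ mem_orbit x h, ?_⟩
    have := (hstab heq2 h x hx.1 c').1 hx.2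
    rwa [(S.exists_rep hl2 h).1 hh] at this
  have hnca : ¬ S.Adj c' S.a := fun h =>
    Set.disjoint_left.1 S.disjoint_orbits (S.adj_base.1 (S.adj_symm h)) hc'mem
  have hT2n : T2.ncard = 320 := by
    have h416 := S.adj_out c'
    have hs : {z | S.Adj c' z} = f1 '' T1 ∪ f2 '' T2 := by
      ext z
      constructor
      · intro hz
        rcases S.cover z with e | e | e
        · exact absurd (e ▸ hz : S.Adj c' S.a) hnca
        · obtain ⟨x, hx, rfl⟩ := (hN1 z).1 (S.adj_base.2 e)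
          exact Or.inl ⟨x, ⟨hx, hz⟩, rfl⟩
        · obtain ⟨x, hx, rfl⟩ := (hN2 z).1 e
          exact Or.inr ⟨x, ⟨hx, hz⟩, rfl⟩
      · rintro (⟨x, hx, rfl⟩ | ⟨x, hx, rfl⟩) <;> exact hx.2
    have hd : Disjoint (f1 '' T1) (f2 '' T2) := by
      rw [Set.disjoint_left]
      rintro _ ⟨x, hx, rfl⟩ ⟨y, hy, e⟩
      exact Set.disjoint_left.1 S.disjoint_orbits (S.adj_base.1 ((hN1 _).2 ⟨x, hx.1, rfl⟩))
        ((hN2 _).2 ⟨y, hy.1, e⟩)
    rw [hs, Set.ncard_union_eq hd, Set.ncard_image_of_injOn (i1.mono fun x hx => hx.1),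
      Set.ncard_image_of_injOn (i2.mono fun x hx => hx.1), hT1n] at h416
    omega
  have hT2eq := F.sub320 T2 (fun x hx => ⟨hx.1, fun e => S.adj_ne hx.2 (by
    rw [Set.mem_singleton_iff.1 e, hf2q])⟩) hT2inv hT2n
  -- assemble
  have hzero : ∀ q : V0, (orbit L q).ncard ≠ 1 → (0 : V0) ∉ orbit L q := fun q hq h => hq (by
    rw [← orbit_eq_iff.2 h, Set.ncard_eq_one]
    exact ⟨0, Set.ext fun z => ⟨fun ⟨l, hl⟩ => by rw [← hl]; exact F.fix0 l.1 l.2,
      fun hz => by rw [hz]; exact mem_orbit_self _⟩⟩)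
  have h01 := hzero F.q1 (by rw [F.card1]; norm_num)
  have h02 := hzero F.q2 (by rw [F.card2]; norm_num)
  have h12 : ∀ x, x ∈ orbit L F.q2 → x ∉ orbit L F.q1 := fun x h h' => by
    have e := F.card1
    rw [← orbit_eq_iff.2 h', orbit_eq_iff.2 h, F.card2] at e
    omega
  let f : V0 → V := fun x =>
    if x ∈ orbit L F.q1 then f1 x else if x ∈ orbit L F.q2 then f2 x else S.a
  have hfa : f 0 = S.a := by simp only [f, if_neg h01, if_neg h02]
  have hfb : ∀ x ∈ orbit L F.q1, f x = f1 x := fun x hx => by simp only [f, if_pos hx]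
  have hfc : ∀ x ∈ orbit L F.q2, f x = f2 x := fun x hx => by
    simp only [f, if_neg (h12 x hx), if_pos hx]
  have hq1 := mem_orbit_self (M := L) F.q1
  have hq2 := mem_orbit_self (M := L) F.q2
  refine ⟨⟨f, (Fintype.bijective_iff_surjective_and_card f).2 ⟨fun z => ?_, ?_⟩, ?_, hfa, ?_, ?_,
    ?_, ?_⟩⟩
  · rcases S.cover z with e | e | e
    · exact ⟨0, hfa.trans e.symm⟩
    · obtain ⟨x, hx, rfl⟩ := (hN1 z).1 (S.adj_base.2 e)
      exact ⟨x, hfb x hx⟩
    · obtain ⟨x, hx, rfl⟩ := (hN2 z).1 e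
      exact ⟨x, hfc x hx⟩
  · rw [Fintype.card_fin, ← Nat.card_eq_fintype_card, S.card]
  · intro l x
    rcases F.mem_cover x with rfl | hx | hx
    · rw [show l • (0 : V0) = 0 from F.fix0 l.1 l.2, hfa]; exact (S.hom_fix l).symm
    · rw [hfb _ (orbit_eq_iff.2 hx ▸ mem_orbit x l), hfb x hx, heq1 x hx l]; rfl
    · rw [hfc _ (orbit_eq_iff.2 hx ▸ mem_orbit x l), hfc x hx, heq2 x hx l]; rfl
  · intro y
    rcases F.mem_cover y with rfl | hy | hy
    · rw [hfa]; exact iff_of_false (fun h => S.adj_ne h rfl) h01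
    · rw [hfb y hy]; exact iff_of_true ((hN1 _).2 ⟨y, hy, rfl⟩) hy
    · rw [hfc y hy]
      exact iff_of_false (fun h => Set.disjoint_left.1 S.disjoint_orbits (S.adj_base.1 h)
        ((hN2 _).2 ⟨y, hy, rfl⟩)) (h12 y hy)
  · intro y hy
    rw [hfb _ hq1, hfb y hy, hf1q, ← hTeq]
    exact ⟨fun h => ⟨hy, h⟩, fun h => h.2⟩
  · intro y hy
    rw [hfc _ hq2, hfb y hy, hf2q, ← hT1eq]
    exact ⟨fun h => ⟨hy, h⟩, fun h => h.2⟩
  · intro y hy
    rw [hfc _ hq2, hfc y hy, hf2q, ← hT2eq]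
    exact ⟨fun h => ⟨hy, h⟩, fun h => h.2⟩

end Setup

/-- Two actions with coordinates have the same graph. -/
theorem adj_coord_iff {G' V' : Type*} [Group G'] [MulAction G' V']
    {L : Subgroup (Equiv.Perm V0)} {F : Facts L} {S : Setup L G V} {S' : Setup L G' V'}
    (C : Coord F S) (C' : Coord F S') (x y : V0) :
    S.Adj (C.f x) (C.f y) ↔ S'.Adj (C'.f x) (C'.f y) := by
  have key : ∀ x y : V0, (x = 0 ∨ x = F.q1 ∨ x = F.q2) →
      (S.Adj (C.f x) (C.f y) ↔ S'.Adj (C'.f x) (C'.f y)) := by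
    intro x y hx
    rcases hx with rfl | rfl | rfl
    · rw [C.base, C'.base, C.adj0, C'.adj0]
    · rcases F.mem_cover y with rfl | hy | hy
      · rw [S.adj_comm, S'.adj_comm, C.base, C'.base, C.adj0, C'.adj0]
      · rw [C.adj11 y hy, C'.adj11 y hy]
      · obtain ⟨k, rfl⟩ := hy
        obtain ⟨u, hu, he⟩ : ∃ u ∈ orbit L F.q1, k • u = F.q1 :=
          ⟨k⁻¹ • F.q1, mem_orbit _ _, smul_inv_smul _ _⟩
        conv_lhs => rw [← he]
        conv_rhs => rw [← he]
        show S.Adj (C.f (k • u)) (C.f (k • F.q2)) ↔ S'.Adj (C'.f (k • u)) (C'.f (k • F.q2))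
        rw [C.equiv, C.equiv, C'.equiv, C'.equiv, S.adj_smul, S'.adj_smul, S.adj_comm,
          S'.adj_comm, C.adj21 u hu, C'.adj21 u hu]
    · rcases F.mem_cover y with rfl | hy | hy
      · rw [S.adj_comm, S'.adj_comm, C.base, C'.base, C.adj0, C'.adj0]
      · rw [C.adj21 y hy, C'.adj21 y hy]
      · rw [C.adj22 y hy, C'.adj22 y hy]
  obtain ⟨l, x0, hx0, rfl⟩ : ∃ (l : L) (x0 : V0),
      (x0 = 0 ∨ x0 = F.q1 ∨ x0 = F.q2) ∧ l • x0 = x := by
    rcases F.mem_cover x with rfl | ⟨l, rfl⟩ | ⟨l, rfl⟩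
    · exact ⟨1, 0, Or.inl rfl, one_smul _ _⟩
    · exact ⟨l, _, Or.inr (Or.inl rfl), rfl⟩
    · exact ⟨l, _, Or.inr (Or.inr rfl), rfl⟩
  rw [← smul_inv_smul l y, C.equiv, C.equiv, C'.equiv, C'.equiv, S.adj_smul, S'.adj_smul]
  exact key x0 _ hx0

end Cfsg.Agent.Lib.SuzRank3
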