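import Cfsg.Agent.Lib.SuzRank3.Piece
import Cfsg.Agent.Lib.SuzRank3.Coords

/-!
Bounding the automorphisms of the graph by refining the neighbourhood patterns of a base.
-/

set_option autoImplicit false
set_option linter.style.haveILetI false

namespace Cfsg.Agent.Lib.SuzRank3

open MulAction
open Cfsg.Agent.Lib.CosetTable

/-- adjacency in the certified group -/
def SAdj (x y : V0) : Prop := rel SG (0 : V0) (47 : V0) x y

/-- the automorphisms of the graph -/
def autS : Subgroup (Equiv.Perm V0) where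
  carrier := {σ | ∀ x y, SAdj (σ x) (σ y) ↔ SAdj x y}
  mul_mem' {σ τ} hσ hτ x y := by
    show SAdj (σ (τ x)) (σ (τ y)) ↔ _
    rw [hσ, hτ]
  one_mem' _ _ := Iff.rfl
  inv_mem' {σ} hσ x y := by
    have h := hσ (σ⁻¹ x) (σ⁻¹ y)
    simp only [Equiv.Perm.inv_def, Equiv.apply_symm_apply] at h ⊢
    exact h.symm

/-- those fixing the point `0` -/
def aut0 : Subgroup (Equiv.Perm V0) := autS ⊓ stabilizer (Equiv.Perm V0) (0 : V0)

theorem SG_le_autS : SG ≤ autS := fun g hg x y =>
  rel_smul (G := SG) (a := (0 : V0)) (b := 47) ⟨g, hg⟩ (x := x) (y := y)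

theorem SL_le_aut0 : SL ≤ aut0 := fun _ hl => ⟨SG_le_autS hl.1, hl.2⟩

theorem orb1_start : (47 : V0) ∈ pset Suz1782.orb1 := by
  show Suz1782.orb1.mem 47 = true
  decide +kernel

theorem orbit_47 : orbit SL (47 : V0) = pset Suz1782.orb1 :=
  orbit_eq_pset Suz1782.orb1_ok orb1_start

theorem sadj_zero {y : V0} : SAdj 0 y ↔ Suz1782.orb1.mem y = true := by
  rw [SAdj, rel_base, show (Suz1782.orb1.mem y = true) = (y ∈ pset Suz1782.orb1) from rfl,
    ← orbit_47]
  constructor
  · rintro ⟨g, rfl⟩; exact ⟨stab0Equiv.symm g, rfl⟩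
  · rintro ⟨l, rfl⟩; exact ⟨stab0Equiv l, rfl⟩

/-- bit `i` -/
noncomputable def bitB (n i : ℕ) : Bool := Nat.beq (Nat.land (Nat.shiftRight n i) 1) 1

theorem bitB_eq (n i : ℕ) : bitB n i = n.testBit i := by
  rw [Bool.eq_iff_iff, bitB, beq_iff, Nat.testBit_eq_decide_div_mod_eq, decide_eq_true_iff]
  show (n >>> i) &&& 1 = 1 ↔ _
  rw [Nat.and_one_is_mod, Nat.shiftRight_eq_div_pow]

/-- all 1782 bits -/
noncomputable def fullMask : ℕ := Nat.sub (Nat.shiftLeft 1 1782) 1

theorem testBit_full (i : V0) : fullMask.testBit i = true := by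
  show (1 <<< 1782 - 1).testBit i = true
  rw [Nat.one_shiftLeft, Nat.testBit_two_pow_sub_one]
  exact decide_eq_true i.2

/-- cut a mask down by what a fixed point sees -/
noncomputable def clsStep (x : ℕ) (q : ℕ × ℕ) (acc : ℕ) : ℕ :=
  iteB (Nat.beq x q.1) (Nat.land acc (Nat.shiftLeft 1 q.1))
    (Nat.land (Nat.land acc (iteB (bitB q.2 x) q.2 (Nat.xor fullMask q.2)))
      (Nat.xor fullMask (Nat.shiftLeft 1 q.1)))

/-- the points that look like `x` from the given ones -/
noncomputable def cls (rows : List (ℕ × ℕ)) (x : ℕ) : ℕ :=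
  List.rec (motive := fun _ => ℕ) fullMask (fun q _ ih => clsStep x q ih) rows

/-- mask of a list -/
noncomputable def maskOf (l : List ℕ) : ℕ :=
  List.rec (motive := fun _ => ℕ) 0 (fun x _ ih => Nat.lor (Nat.shiftLeft 1 x) ih) l

theorem testBit_maskOf : ∀ {l : List ℕ} {i : ℕ}, (maskOf l).testBit i = true → i ∈ l
  | [], i, h => by simp [maskOf] at h
  | a :: l, i, h => by
    change ((1 <<< a) ||| maskOf l).testBit i = true at h
    rw [Nat.testBit_lor, Bool.or_eq_true, Nat.one_shiftLeft, Nat.testBit_two_pow,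
      decide_eq_true_iff] at h
    rcases h with h | h
    · exact h ▸ List.mem_cons_self
    · exact List.mem_cons_of_mem _ (testBit_maskOf h)

/-- a row of the adjacency matrix -/
def RowOK (q : ℕ × ℕ) : Prop :=
  ∃ h : q.1 < 1782, ∀ y : V0, q.2.testBit y = true ↔ SAdj ⟨q.1, h⟩ y

/-- test a row against a word leading to `0` -/
noncomputable def rowChk (row : ℕ) (v : List ℕ) (x : ℕ) : Bool :=
  cond (bitB row x) (Suz1782.orb1.mem (wk v x)) (! Suz1782.orb1.mem (wk v x))

theorem rowOK_of {q : ℕ × ℕ} {v : List ℕ} (hv : ltOK 7 v = true) (hb : q.1 < 1782)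
    (h0 : wk v q.1 = 0) (h : Below (rowChk q.2 v) 1782) : RowOK q := by
  refine ⟨hb, fun y => ?_⟩
  have hg := eval_mem_SG (ltOK_spec hv)
  have e0 : eval pp v ⟨q.1, hb⟩ = 0 := Fin.ext ((pp_eval (ltOK_spec hv) _).trans h0)
  rw [← SG_le_autS hg ⟨q.1, hb⟩ y, e0, sadj_zero, pp_eval (ltOK_spec hv)]
  have := h y y.2
  simp only [rowChk, bitB_eq] at this
  cases hq : q.2.testBit y <;> simp_all

/-- those fixing the points of the rows -/
def fixRows (rows : List (ℕ × ℕ)) : Subgroup (Equiv.Perm V0) where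
  carrier := {σ | σ ∈ aut0 ∧ ∀ q ∈ rows, ∀ b : V0, (b : ℕ) = q.1 → σ b = b}
  mul_mem' {σ τ} hσ hτ := ⟨aut0.mul_mem hσ.1 hτ.1, fun q hq b hb => by
    show σ (τ b) = b
    rw [hτ.2 q hq b hb, hσ.2 q hq b hb]⟩
  one_mem' := ⟨aut0.one_mem, fun _ _ _ _ => rfl⟩
  inv_mem' {σ} hσ := ⟨aut0.inv_mem hσ.1, fun q hq b hb => by
    rw [Equiv.Perm.inv_eq_iff_eq]; exact (hσ.2 q hq b hb).symm⟩

theorem testBit_cls : ∀ {rows : List (ℕ × ℕ)}, (∀ q ∈ rows, RowOK q) → ∀ {σ : Equiv.Perm V0},
    σ ∈ fixRows rows → ∀ x : V0, (cls rows x).testBit (σ x) = true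
  | [], _, σ, _, x => testBit_full (σ x)
  | q :: rows, hR, σ, hσ, x => by
    have ih := testBit_cls (fun r hr => hR r (List.mem_cons_of_mem _ hr))
      (σ := σ) ⟨hσ.1, fun r hr => hσ.2 r (List.mem_cons_of_mem _ hr)⟩ x
    obtain ⟨hb, hrow⟩ := hR q List.mem_cons_self
    have hfix := hσ.2 q List.mem_cons_self ⟨q.1, hb⟩ rfl
    show (clsStep x q (cls rows x)).testBit (σ x) = true
    simp only [clsStep, iteB_eq]
    cases hx : Nat.beq (x : ℕ) q.1
    · have hne : x ≠ ⟨q.1, hb⟩ := fun e => by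
        rw [e, Nat.beq_refl] at hx; exact Bool.noConfusion hx
      have hne' : σ x ≠ ⟨q.1, hb⟩ := fun e => hne (σ.injective (e.trans hfix.symm))
      have hadj : q.2.testBit (σ x) = q.2.testBit x := by
        rw [Bool.eq_iff_iff, hrow, hrow]
        conv_lhs => rw [← hfix]
        exact hσ.1.1 _ _
      show ((cls rows x &&& cond (bitB q.2 x) q.2 (fullMask ^^^ q.2)) &&&
        (fullMask ^^^ (1 <<< q.1))).testBit (σ x) = true
      rw [bitB_eq, Nat.testBit_land, Nat.testBit_land, ih, Nat.testBit_xor, testBit_full,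
        Nat.one_shiftLeft, Nat.testBit_two_pow, decide_eq_false (fun e => hne' (Fin.ext e.symm))]
      cases hq : q.2.testBit x
      · simp [Nat.testBit_xor, testBit_full, hadj, hq]
      · simp [hadj, hq]
    · have e : x = ⟨q.1, hb⟩ := Fin.ext (beq_iff.mp hx)
      show (cls rows x &&& (1 <<< q.1)).testBit (σ x) = true
      rw [Nat.testBit_land, ih, Nat.one_shiftLeft, Nat.testBit_two_pow, Bool.true_and,
        decide_eq_true_iff, e, hfix]

/-- the classes of the successive base points -/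
noncomputable def chainOK (rows0 : List (ℕ × ℕ)) (L : List ((ℕ × ℕ) × List ℕ)) : Bool :=
  (List.rec (motive := fun _ => List (ℕ × ℕ) → Bool) (fun _ => true)
    (fun s _ ih rows => andB (Nat.beq (cls rows s.1.1) (maskOf s.2)) (ih (s.1 :: rows))) L) rows0

/-- the product of the class sizes -/
def chainProd : List ((ℕ × ℕ) × List ℕ) → ℕ
  | [] => 1
  | s :: L => s.2.length * chainProd L

/-- all rows at the end of a chain -/
def chainRows : List (ℕ × ℕ) → List ((ℕ × ℕ) × List ℕ) → List (ℕ × ℕ)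
  | rows, [] => rows
  | rows, s :: L => chainRows (s.1 :: rows) L

theorem chain_bound : ∀ (L : List ((ℕ × ℕ) × List ℕ)) (rows : List (ℕ × ℕ)),
    (∀ q ∈ rows, RowOK q) → (∀ s ∈ L, RowOK s.1) → chainOK rows L = true →
    Nat.card (fixRows rows) ≤ chainProd L * Nat.card (fixRows (chainRows rows L))
  | [], rows, _, _, _ => by simp [chainProd, chainRows]
  | s :: L, rows, hR, hL, h => by
    classical
    change andB (Nat.beq (cls rows s.1.1) (maskOf s.2)) (chainOK (s.1 :: rows) L) = true at h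
    rw [andB_eq, Bool.and_eq_true, beq_iff] at h
    have hs := hL s List.mem_cons_self
    obtain ⟨hb, -⟩ := id hs
    have hrec := chain_bound L (s.1 :: rows) (List.forall_mem_cons.mpr ⟨hs, hR⟩)
      (fun t ht => hL t (List.mem_cons_of_mem _ ht)) h.2
    have horb : (orbit (fixRows rows) (⟨s.1.1, hb⟩ : V0)).ncard ≤ s.2.length := by
      rw [← Set.ncard_image_of_injective _ Fin.val_injective]
      refine le_trans (Set.ncard_le_ncard ?_ (s.2.toFinset : Finset ℕ).finite_toSet)
        (by rw [Set.ncard_coe_finset]; exact List.toFinset_card_le _)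
      rintro _ ⟨_, ⟨σ, rfl⟩, rfl⟩
      rw [Finset.mem_coe, List.mem_toFinset]
      refine testBit_maskOf ?_
      rw [← h.1]
      exact testBit_cls hR σ.2 ⟨s.1.1, hb⟩
    have e : Nat.card (stabilizer (fixRows rows) (⟨s.1.1, hb⟩ : V0)) =
        Nat.card (fixRows (s.1 :: rows)) := Nat.card_congr
      { toFun := fun σ => ⟨σ.1.1, σ.1.2.1, List.forall_mem_cons.mpr ⟨fun b hb' => by
          rw [show b = (⟨s.1.1, hb⟩ : V0) from Fin.ext hb']; exact σ.2, σ.1.2.2⟩⟩
        invFun := fun σ => ⟨⟨σ.1, σ.2.1, fun q hq => σ.2.2 q (List.mem_cons_of_mem _ hq)⟩,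
          σ.2.2 s.1 List.mem_cons_self _ rfl⟩
        left_inv := fun _ => rfl
        right_inv := fun _ => rfl }
    calc Nat.card (fixRows rows)
        = (orbit (fixRows rows) (⟨s.1.1, hb⟩ : V0)).ncard *
          Nat.card (fixRows (s.1 :: rows)) := by rw [← e, card_orbit_mul]
      _ ≤ s.2.length * (chainProd L * Nat.card (fixRows (chainRows (s.1 :: rows) L))) :=
          Nat.mul_le_mul horb hrec
      _ = chainProd (s :: L) * Nat.card (fixRows (chainRows rows (s :: L))) :=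
          (mul_assoc _ _ _).symm

/-- the rows separate all points -/
noncomputable def sepOK (rows : List (ℕ × ℕ)) (x : ℕ) : Bool :=
  Nat.beq (cls rows x) (Nat.shiftLeft 1 x)

theorem eq_one_of_sep {rows : List (ℕ × ℕ)} (hR : ∀ q ∈ rows, RowOK q)
    (hsep : Below (sepOK rows) 1782) {σ : Equiv.Perm V0} (hσ : σ ∈ fixRows rows) : σ = 1 := by
  ext x
  have h := beq_iff.mp (hsep x x.2)
  have h2 := testBit_cls hR hσ x
  rw [h, show Nat.shiftLeft 1 (x : ℕ) = 1 <<< (x : ℕ) from rfl, Nat.one_shiftLeft,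
    Nat.testBit_two_pow, decide_eq_true_iff] at h2
  exact h2.symm

end Cfsg.Agent.Lib.SuzRank3
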