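import Cfsg.Agent.Lib.SuzRank3.Sub416

/-!
Invariant sets as unions of pieces, and the subgroups of order 184320.
-/

set_option autoImplicit false
set_option linter.style.haveILetI false
set_option maxRecDepth 4000

namespace Cfsg.Agent.Lib.SuzRank3

open MulAction
open Cfsg.Agent.Lib.CosetTable
open scoped Pointwise

theorem allL_intro {α : Type} {p : α → Bool} : ∀ {l : List α}, (∀ x ∈ l, p x = true) →
    allL p l = true
  | [], _ => rfl
  | a :: l, h => by
    show andB (p a) (allL p l) = true
    rw [andB_eq, h a List.mem_cons_self, allL_intro fun x hx => h x (List.mem_cons_of_mem _ hx)]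
    rfl

theorem memN_of_mem {k : ℕ} : ∀ {l : List ℕ}, k ∈ l → memN k l = true
  | [], h => absurd h List.not_mem_nil
  | a :: l, h => by
    show iteB (Nat.beq a k) true (memN k l) = true
    rw [iteB_eq, Bool.cond_true_left]
    rcases List.mem_cons.mp h with h | h
    · rw [h, Nat.beq_refl]; rfl
    · rw [memN_of_mem h, Bool.or_true]

/-- the sums of sublists -/
def subsums : List ℕ → List ℕ
  | [] => [0]
  | m :: l => subsums l ++ (subsums l).map (m + ·)

/-- the pieces are disjoint -/
noncomputable def disjChk : List Orb → Bool :=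
  List.rec (motive := fun _ => Bool) true
    (fun O Os ih => andB (rangeAll (fun p => force (O.get p) fun x =>
      allL (fun O' => ! O'.mem x) Os) O.m 0) ih)

/-- every point of `A`, except `e`, lies in some piece -/
noncomputable def coverChk (A : Orb) (e : ℕ) (Os : List Orb) (p : ℕ) : Bool :=
  force (A.get p) fun x => iteB (Nat.beq x e) true
    (List.rec (motive := fun _ => Bool) false (fun O _ ih => iteB (O.mem x) true ih) Os)

/-- the checked pieces of a group -/
structure PiecesOK (H : Subgroup SL) (A : Orb) (e : ℕ) (ws : List (List ℕ)) (Os : List Orb) :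
    Prop where
  gens : InGroup H ws
  reach : ∀ O ∈ Os, Below (O.reachOK Suz1782.tab ws) O.m
  disj : disjChk Os = true
  cover : Below (coverChk A e Os) A.m

theorem ncard_mem_subsums {ws : List (List ℕ)} : ∀ {Os : List Orb},
    (∀ O ∈ Os, Below (O.reachOK Suz1782.tab ws) O.m) → disjChk Os = true →
    ∀ T : Set V0, (∀ O ∈ Os, pset O ⊆ T ∨ Disjoint T (pset O)) →
      (∀ x ∈ T, ∃ O ∈ Os, x ∈ pset O) → T.ncard ∈ subsums (Os.map Orb.m)
  | [], _, _, T, _, hc => by
    have : T = ∅ := Set.eq_empty_iff_forall_notMem.mpr fun x hx => by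
      obtain ⟨O, hO, -⟩ := hc x hx; exact absurd hO List.not_mem_nil
    simp [this, subsums]
  | O :: Os, hr, hd, T, hdi, hc => by
    change andB (rangeAll _ O.m 0) (disjChk Os) = true at hd
    rw [andB_eq, Bool.and_eq_true] at hd
    have hrO := hr O List.mem_cons_self
    have hdisj : ∀ O' ∈ Os, Disjoint (pset O) (pset O') := by
      intro O' hO'
      rw [Set.disjoint_left, pset_eq_range hrO]
      rintro _ ⟨p, rfl⟩ hx
      have := rangeAll_spec hd.1 (p : ℕ) (Nat.zero_le _) (by omega)
      rw [force_eq] at this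
      have := allL_spec this O' hO'
      rw [show O'.mem (O.get p) = true from hx] at this
      exact Bool.noConfusion this
    have hrec := ncard_mem_subsums (ws := ws) (fun O' h => hr O' (List.mem_cons_of_mem _ h)) hd.2
      (T \ pset O) (fun O' hO' => by
        rcases hdi O' (List.mem_cons_of_mem _ hO') with h | h
        · exact Or.inl fun x hx => ⟨h hx, fun hxO => Set.disjoint_left.mp (hdisj O' hO') hxO hx⟩
        · exact Or.inr (Set.disjoint_of_subset_left Set.sdiff_subset h))
      (fun x hx => by
        obtain ⟨O', hO', hxO'⟩ := hc x hx.1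
        rcases List.mem_cons.mp hO' with rfl | hO'
        · exact absurd hxO' hx.2
        · exact ⟨O', hO', hxO'⟩)
    show T.ncard ∈ subsums (O.m :: Os.map Orb.m)
    rw [subsums, List.mem_append, List.mem_map]
    rcases hdi O List.mem_cons_self with h | h
    · refine Or.inr ⟨_, hrec, ?_⟩
      rw [← ncard_pset hrO, Nat.add_comm]
      exact Set.ncard_sdiff_add_ncard_of_subset h (Set.toFinite _)
    · rw [show T \ pset O = T from h.sdiff_eq_left] at hrec
      exact Or.inl hrec

theorem cover_spec {A : Orb} {e : ℕ} {Os : List Orb} (hc : Below (coverChk A e Os) A.m) {x : V0}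
    (hx : x ∈ pset A) (hne : (x : ℕ) ≠ e) : ∃ O ∈ Os, x ∈ pset O := by
  obtain ⟨h1, h2⟩ := mem_pset.mp hx
  have h := hc _ h1
  simp only [coverChk, force_eq, h2, iteB_eq,
    Bool.eq_false_iff.mpr (fun q => hne (beq_iff.mp q)), cond_false] at h
  clear hc
  induction Os with
  | nil => exact Bool.noConfusion (h : false = true)
  | cons O Os ih =>
    change cond (O.mem x) true _ = true at h
    rw [Bool.cond_true_left, Bool.or_eq_true] at h
    rcases h with h | h
    · exact ⟨O, List.mem_cons_self, h⟩
    · obtain ⟨O', hO', hx'⟩ := ih h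
      exact ⟨O', List.mem_cons_of_mem _ hO', hx'⟩

namespace PiecesOK

variable {H : Subgroup SL} {A : Orb} {e : ℕ} {ws : List (List ℕ)} {Os : List Orb}

theorem ncard (P : PiecesOK H A e ws Os) (T : Set V0) (hA : T ⊆ pset A)
    (he : ∀ x ∈ T, (x : ℕ) ≠ e) (hT : ∀ h ∈ H, ∀ x ∈ T, h • x ∈ T) :
    T.ncard ∈ subsums (Os.map Orb.m) :=
  ncard_mem_subsums P.reach P.disj T (fun O hO => pset_dichotomy (P.reach O hO) P.gens hT)
    fun x hx => cover_spec P.cover (hA hx) (he x hx)

/-- a piece whose size cannot come from the other ones -/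
theorem unique {O : Orb} (P : PiecesOK H A e ws (O :: Os)) {T : Set V0} (hA : T ⊆ pset A)
    (he : ∀ x ∈ T, (x : ℕ) ≠ e) (hT : ∀ h ∈ H, ∀ x ∈ T, h • x ∈ T) (hn : T.ncard = O.m)
    (hs : O.m ∉ subsums (Os.map Orb.m)) {q : V0} (hq : q ∈ pset O) : T = orbit H q := by
  have hr := P.reach O List.mem_cons_self
  rcases pset_dichotomy hr P.gens hT with h | h
  · have heq : pset O = T := Set.eq_of_subset_of_ncard_le h (by rw [ncard_pset hr, hn])
      (Set.toFinite _)
    subst heq
    refine Set.Subset.antisymm (pset_subset_orbit hr P.gens hq) ?_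
    rintro _ ⟨k, rfl⟩
    exact hT _ k.2 q hq
  · exfalso
    have hd := P.disj
    change andB _ (disjChk Os) = true at hd
    rw [andB_eq, Bool.and_eq_true] at hd
    refine hs ?_
    rw [← hn]
    refine ncard_mem_subsums (fun O' h => P.reach O' (List.mem_cons_of_mem _ h)) hd.2 T
      (fun O' hO' => pset_dichotomy (P.reach O' (List.mem_cons_of_mem _ hO')) P.gens hT)
      fun x hx => ?_
    obtain ⟨O', hO', hx'⟩ := cover_spec P.cover (hA hx) (he x hx)
    rcases List.mem_cons.mp hO' with rfl | hO'
    · exact absurd hx' (Set.disjoint_left.mp h hx)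
    · exact ⟨O', hO', hx'⟩

end PiecesOK

/-- a product of the words with the given numbers -/
def prodW (done : List (List ℕ)) (idx : List ℕ) : List ℕ :=
  (idx.map fun i => done.getD i []).flatten

/-- each word is an involution normalising the span of the earlier ones -/
noncomputable def chainU (bs : List ℕ) : List (List ℕ) → List (List ℕ × List (List ℕ)) → Bool
  | _, [] => true
  | done, (u, rels) :: todo =>
    ltOK 6 u && baseEq bs (u ++ u) [] &&
      (List.range done.length).all (fun j => ((rels.getD j []).all fun i => decide (i < done.length)) &&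
        baseEq bs (u ++ done.getD j [] ++ u) (prodW done (rels.getD j []))) &&
      chainU bs (done ++ [u]) todo

theorem prodW_mem {done : List (List ℕ)} (hd : ∀ w ∈ done, ltOK 6 w = true) :
    ∀ {idx : List ℕ}, (∀ i ∈ idx, i < done.length) →
      ltOK 6 (prodW done idx) = true ∧
        lw (prodW done idx) ∈ Subgroup.closure {x | ∃ w ∈ done, lw w = x}
  | [], _ => ⟨rfl, by rw [show prodW done [] = [] from rfl, lw_nil]; exact Subgroup.one_mem _⟩
  | i :: idx, h => by
    obtain ⟨h1, h2⟩ := prodW_mem hd (idx := idx) fun j hj => h j (List.mem_cons_of_mem _ hj)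
    have hi : done.getD i [] ∈ done := by
      rw [List.getD_eq_getElem _ _ (h i List.mem_cons_self)]; exact List.getElem_mem _
    rw [show prodW done (i :: idx) = done.getD i [] ++ prodW done idx from rfl]
    exact ⟨ltOK_append (hd _ hi) h1, by
      rw [lw_append (hd _ hi) h1]
      exact Subgroup.mul_mem _ h2 (Subgroup.subset_closure ⟨_, hi, rfl⟩)⟩

theorem chainU_spec {rows : List (ℕ × ℕ)} (S : Sep rows) :
    ∀ (todo : List (List ℕ × List (List ℕ))) (done : List (List ℕ)),
      chainU (rows.map Prod.fst) done todo = true → (∀ w ∈ done, ltOK 6 w = true) →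
      IsPGroup 2 (Subgroup.closure {x | ∃ w ∈ done, lw w = x}) →
      IsPGroup 2 (Subgroup.closure {x | ∃ w ∈ done ++ todo.map Prod.fst, lw w = x}) ∧
        ∀ w ∈ done ++ todo.map Prod.fst, ltOK 6 w = true
  | [], done, _, hd, hp => by rw [List.map_nil, List.append_nil]; exact ⟨hp, hd⟩
  | (u, rels) :: todo, done, h, hd, hp => by
    simp only [chainU, Bool.and_eq_true, List.all_eq_true, List.mem_range, decide_eq_true_eq] at h
    obtain ⟨⟨⟨hu, hu2⟩, hr⟩, hrest⟩ := h
    have e2 := S.lw_ext (ltOK_append hu hu) (rfl : ltOK 6 [] = true) hu2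
    rw [lw_append hu hu, lw_nil] at e2
    have hui : (lw u)⁻¹ = lw u := inv_eq_of_mul_eq_one_right e2
    have hx : lw u ^ 2 ^ 1 = 1 := by rw [pow_one, pow_two, e2]
    have := isPGroup_adjoin hp hx (by
      rintro _ ⟨w, hw, rfl⟩
      obtain ⟨j, hj, rfl⟩ := List.getElem_of_mem hw
      obtain ⟨hidx, heq⟩ := hr j hj
      rw [List.getD_eq_getElem _ _ hj] at heq
      obtain ⟨l1, l2⟩ := prodW_mem hd hidx
      have hdj := hd _ (List.getElem_mem hj)
      have e := S.lw_ext (ltOK_append (ltOK_append hu hdj) hu) l1 heq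
      rw [lw_append (ltOK_append hu hdj) hu, lw_append hu hdj, ← mul_assoc] at e
      rw [hui, e]
      exact l2)
    have hset : insert (lw u) {x | ∃ w ∈ done, lw w = x} = {x | ∃ w ∈ done ++ [u], lw w = x} := by
      ext x
      simp only [Set.mem_insert_iff, Set.mem_setOf_eq, List.mem_append, List.mem_singleton,
        or_and_right, exists_or, exists_eq_left]
      constructor <;> rintro (h | h) <;> simp [h]
    rw [hset] at this
    have hd' : ∀ w ∈ done ++ [u], ltOK 6 w = true := by
      intro w hw
      rcases List.mem_append.mp hw with hw | hw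
      · exact hd w hw
      · rw [List.mem_singleton.mp hw]; exact hu
    have := chainU_spec S todo (done ++ [u]) hrest hd' this
    have e : done ++ [u] ++ todo.map Prod.fst = done ++ ((u, rels) :: todo).map Prod.fst := by simp
    rw [e] at this
    exact this

/-- the words stabilise the line -/
noncomputable def lineStab (ln : List ℕ) (w : List ℕ) : Bool :=
  allL (fun t => memN (wk w t) ln) ln

/-- the two words give different lines -/
noncomputable def lineSep (ln : List ℕ) (v w : List ℕ) : Bool := ! lineStab ln (v ++ w.reverse)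

/-- the checked facts about the large suborbit -/
structure LineOK (rows : List (ℕ × ℕ)) (uc : List (List ℕ × List (List ℕ))) (ln : List ℕ)
    (o1 o4 : Orb) (os : List Orb) (lws : List (List ℕ)) (lps : List Orb)
    (cs : List (List ℕ)) : Prop where
  sep : Sep rows
  chain : chainU (rows.map Prod.fst) [] uc = true
  reach : ∀ O ∈ o1 :: o4 :: os, Below (O.reachOK Suz1782.tab (uc.map Prod.fst)) O.m
  disj : disjChk (o1 :: o4 :: os) = true
  cover : Below (coverChk Suz1782.orb2 1782 (o1 :: o4 :: os)) 1365
  ok1 : o1.m = 1 ∧ o1.mem 1 = true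
  ok4 : o4.m = 4
  line : Below (fun x => Bool.rec (! memN x ln) (memN x ln) (o1.mem x || o4.mem x)) 1782
  lnlt : allL (fun t => Nat.blt t 1782) ln = true
  fix1 : allL (fun w => Nat.beq (wk w 1) 1) (uc.map Prod.fst) = true
  sums : ((subsums ((o4 :: os).map Orb.m)).filter fun m => decide ((m + 1) ∣ 184320)) = [0, 4]
  lgens : allL (fun w => andB (ltOK 6 w) (lineStab ln w)) lws = true
  lreach : ∀ O ∈ lps, Below (O.reachOK Suz1782.tab lws) O.m
  ldisj : disjChk lps = true
  lcover : Below (coverChk Suz1782.orb1 1782 lps) 416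
  lsums : (subsums (lps.map Orb.m)).contains 96 = false
  cs : cs.length = 5 ∧ allL (fun w => andB (ltOK 6 w) (Nat.beq (wk w 1) 1)) cs = true ∧
    (List.range 5).all (fun i => (List.range i).all fun j =>
      lineSep ln (cs.getD i []) (cs.getD j [])) = true

theorem orb2_start : (1 : V0) ∈ pset Suz1782.orb2 := by
  show Suz1782.orb2.mem 1 = true
  decide +kernel

theorem orbit_1 : orbit SL (1 : V0) = pset Suz1782.orb2 :=
  orbit_eq_pset Suz1782.orb2_ok orb2_start

theorem orb2_reach : Below (Suz1782.orb2.reachOK Suz1782.tab Suz1782.cert.subs) Suz1782.orb2.m :=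
  pos_to_reach Suz1782.orb2_ok

theorem card_stab_one : Nat.card (stabilizer SL (1 : V0)) = 184320 := by
  have h := card_orbit_mul (K := SL) (1 : V0)
  rw [orbit_1, ncard_pset orb2_reach, SL_card, show Suz1782.orb2.m = 1365 from rfl] at h
  omega

section Main

variable {rows : List (ℕ × ℕ)} {uc : List (List ℕ × List (List ℕ))} {ln : List ℕ}
  {o1 o4 : Orb} {os : List Orb} {lws : List (List ℕ)} {lps : List Orb} {cs : List (List ℕ)}
  (F : LineOK rows uc ln o1 o4 os lws lps cs)

include F in
theorem sub1365_main (H : Subgroup SL) (hH : Nat.card H = 184320) :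
    (∃ l : SL, H = stabilizer SL (l • (1 : V0))) ∨
      ∀ T : Set V0, T ⊆ pset Suz1782.orb1 → (∀ h ∈ H, ∀ x ∈ T, h • x ∈ T) → T.ncard ≠ 96 := by
  classical
  haveI : Fact (Nat.Prime 2) := ⟨Nat.prime_two⟩
  obtain ⟨hU, hUl⟩ := chainU_spec F.sep uc [] F.chain (fun w hw => absurd hw List.not_mem_nil)
    (by
      rw [show {x : SL | ∃ w ∈ ([] : List (List ℕ)), lw w = x} = ∅ by simp,
        Subgroup.closure_empty]
      exact IsPGroup.of_bot)
  rw [List.nil_append] at hU hUl
  obtain ⟨g, hg⟩ := exists_conj_le (p := 2) (n := 12) _ hU H (by rw [hH]; norm_num)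
    (by rw [SL_card]; norm_num)
  set H' := H.comap (MulAut.conj g).toMonoidHom with hH'
  have hin : InGroup H' (uc.map Prod.fst) := fun w hw =>
    ⟨hUl w hw, hg _ (Subgroup.subset_closure ⟨w, hw, rfl⟩)⟩
  have hH'c : Nat.card H' = 184320 := by
    rw [← hH]
    exact Nat.card_congr
      { toFun := fun x => ⟨g * x.1 * g⁻¹, x.2⟩
        invFun := fun x => ⟨g⁻¹ * x.1 * g, by
          show g * (g⁻¹ * x.1 * g) * g⁻¹ ∈ H
          simp [mul_assoc]⟩
        left_inv := fun x => Subtype.ext (by simp [mul_assoc])
        right_inv := fun x => Subtype.ext (by simp [mul_assoc]) }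
  set S := orbit H' (1 : V0) with hS
  have h1S : (1 : V0) ∈ S := mem_orbit_self _
  have hSinv : ∀ h ∈ H', ∀ x ∈ S, h • x ∈ S := by
    rintro h hh _ ⟨k, rfl⟩
    exact ⟨⟨h, hh⟩ * k, mul_smul (⟨h, hh⟩ : H') k (1 : V0)⟩
  have hSsub : S ⊆ pset Suz1782.orb2 := by
    rintro _ ⟨k, rfl⟩
    rw [← orbit_1]; exact mem_orbit (1 : V0) (k : SL)
  have hdi : ∀ O ∈ o1 :: o4 :: os, pset O ⊆ S ∨ Disjoint S (pset O) :=
    fun O hO => pset_dichotomy (F.reach O hO) hin hSinv
  have hd := F.disj
  change andB _ (disjChk (o4 :: os)) = true at hd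
  rw [andB_eq, Bool.and_eq_true] at hd
  have hp1 : pset o1 = {1} := by
    have h1o : (1 : V0) ∈ pset o1 := F.ok1.2
    refine (Set.eq_of_subset_of_ncard_le (t := pset o1) (Set.singleton_subset_iff.mpr h1o) ?_
      (Set.toFinite _)).symm
    rw [ncard_pset (F.reach o1 List.mem_cons_self), Set.ncard_singleton, F.ok1.1]
  have hcov : ∀ x ∈ S, ∃ O ∈ o1 :: o4 :: os, x ∈ pset O := fun x hx =>
    cover_spec F.cover (hSsub hx) (by have := x.2; omega)
  have hrest : ∀ O ∈ o4 :: os, Disjoint (pset o1) (pset O) := by
    intro O hO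
    rw [Set.disjoint_left, pset_eq_range (F.reach o1 List.mem_cons_self)]
    rintro _ ⟨p, rfl⟩ hx
    have := rangeAll_spec hd.1 (p : ℕ) (Nat.zero_le _) (by omega)
    rw [force_eq] at this
    have := allL_spec this O hO
    rw [show O.mem (o1.get p) = true from hx] at this
    exact Bool.noConfusion this
  have hsum := ncard_mem_subsums (fun O h => F.reach O (List.mem_cons_of_mem _ h)) hd.2
    (S \ pset o1)
    (fun O hO => by
      rcases hdi O (List.mem_cons_of_mem _ hO) with h | h
      · exact Or.inl fun x hx => ⟨h hx, fun hx1 => Set.disjoint_left.mp (hrest O hO) hx1 hx⟩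
      · exact Or.inr (Set.disjoint_of_subset_left Set.sdiff_subset h))
    (fun x hx => by
      obtain ⟨O, hO, hxO⟩ := hcov x hx.1
      rcases List.mem_cons.mp hO with rfl | hO
      · exact absurd hxO hx.2
      · exact ⟨O, hO, hxO⟩)
  have hSn : (S \ pset o1).ncard + 1 = S.ncard := by
    have := Set.ncard_sdiff_add_ncard_of_subset (t := S)
      (show pset o1 ⊆ S by rw [hp1]; exact Set.singleton_subset_iff.mpr h1S) (Set.toFinite _)
    rwa [hp1, Set.ncard_singleton, ← hp1] at this
  have hdvd : S.ncard ∣ 184320 := ⟨_, by rw [hS, card_orbit_mul, hH'c]⟩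
  have hcase : (S \ pset o1).ncard = 0 ∨ (S \ pset o1).ncard = 4 := by
    have hm : (S \ pset o1).ncard ∈
        (subsums ((o4 :: os).map Orb.m)).filter fun m => decide ((m + 1) ∣ 184320) :=
      List.mem_filter.mpr ⟨hsum, decide_eq_true (hSn ▸ hdvd)⟩
    rw [F.sums] at hm
    simpa using hm
  rcases hcase with h0 | h4
  · -- the stabiliser of a point
    left
    refine ⟨g, ?_⟩
    have hle : H' ≤ stabilizer SL (1 : V0) := by
      intro h hh
      have hS1 : S.ncard = 1 := by omega
      obtain ⟨a, ha⟩ := Set.ncard_eq_one.mp hS1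
      have e1 : (1 : V0) ∈ ({a} : Set V0) := ha ▸ h1S
      have e2 : h • (1 : V0) ∈ ({a} : Set V0) := ha ▸ hSinv h hh _ h1S
      exact e2.trans e1.symm
    have heq : H' = stabilizer SL (1 : V0) :=
      Subgroup.eq_of_le_of_card_ge hle (by rw [card_stab_one, hH'c])
    ext x
    have := SetLike.ext_iff.mp heq (g⁻¹ * x * g)
    rw [hH', Subgroup.mem_comap, show (MulAut.conj g).toMonoidHom (g⁻¹ * x * g) = x by
      show g * (g⁻¹ * x * g) * g⁻¹ = x
      simp [mul_assoc], mem_stabilizer_iff] at this
    rw [this, mem_stabilizer_iff, mul_smul, mul_smul, inv_smul_eq_iff]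
  · -- the stabiliser of a line
    right
    set ℓ : Set V0 := {x | memN x ln = true} with hℓ
    have hline : ∀ x : V0, x ∈ ℓ ↔ x ∈ pset o1 ∨ x ∈ pset o4 := by
      intro x
      have := F.line x x.2
      show memN x ln = true ↔ o1.mem x = true ∨ o4.mem x = true
      cases h1 : o1.mem x <;> cases h2 : o4.mem x <;> simp_all
    have ho4 : pset o4 ⊆ S := by
      refine (hdi o4 (by simp)).resolve_right fun hd4 => ?_
      have hd' := hd.2
      change andB _ (disjChk os) = true at hd'
      rw [andB_eq, Bool.and_eq_true] at hd'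
      have := ncard_mem_subsums (fun O h => F.reach O (by simp [h])) hd'.2 (S \ pset o1)
        (fun O hO => by
          rcases hdi O (by simp [hO]) with h | h
          · exact Or.inl fun x hx =>
              ⟨h hx, fun hx1 => Set.disjoint_left.mp (hrest O (by simp [hO])) hx1 hx⟩
          · exact Or.inr (Set.disjoint_of_subset_left Set.sdiff_subset h))
        (fun x hx => by
          obtain ⟨O, hO, hxO⟩ := hcov x hx.1
          rcases List.mem_cons.mp hO with rfl | hO
          · exact absurd hxO hx.2
          rcases List.mem_cons.mp hO with rfl | hO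
          · exact absurd hxO (Set.disjoint_left.mp hd4 hx.1)
          · exact ⟨O, hO, hxO⟩)
      have hno : (subsums (os.map Orb.m)).contains 4 = false := by
        rw [Bool.eq_false_iff]
        intro hc
        have hm : 8 ∈ (subsums ((o4 :: os).map Orb.m)).filter
            fun m => decide ((m + 1) ∣ 184320) := by
          refine List.mem_filter.mpr ⟨?_, by norm_num⟩
          show 8 ∈ subsums (o4.m :: os.map Orb.m)
          rw [subsums, List.mem_append, List.mem_map]
          exact Or.inr ⟨4, List.contains_iff_mem.mp hc, by rw [F.ok4]⟩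
        rw [F.sums] at hm
        simp at hm
      rw [h4] at this
      rw [List.contains_iff_mem.mpr this] at hno
      exact Bool.noConfusion hno
    have hSℓ : S = ℓ := by
      refine (Set.eq_of_subset_of_ncard_le (fun x hx => ?_) ?_ (Set.toFinite _)).symm
      · rcases (hline x).mp hx with h | h
        · rw [hp1] at h; exact h ▸ h1S
        · exact ho4 h
      · have hu : pset o1 ∪ pset o4 ⊆ ℓ := fun x hx => (hline x).mpr hx
        refine le_trans (le_of_eq ?_) (Set.ncard_le_ncard hu (Set.toFinite _))
        rw [Set.ncard_union_eq (hrest o4 List.mem_cons_self) (Set.toFinite _) (Set.toFinite _),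
          hp1, Set.ncard_singleton, ncard_pset (F.reach o4 (by simp)), F.ok4, ← hSn, h4]
    set St := stabilizer SL ℓ with hSt
    have stabOf : ∀ x : SL, (∀ t ∈ ℓ, x • t ∈ ℓ) → x • ℓ = ℓ := fun x hx =>
      Set.eq_of_subset_of_ncard_le (by rintro _ ⟨t, ht, rfl⟩; exact hx t ht)
        (le_of_eq (Set.ncard_image_of_injective ℓ (MulAction.injective x)).symm) (Set.toFinite _)
    have hle : H' ≤ St := fun h hh => stabOf h fun t ht => by
      rw [← hSℓ] at ht ⊢; exact hSinv h hh t ht
    have hSt1 : Nat.card St ≤ 184320 := by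
      have hA := card_orbit_mul (K := St) (1 : V0)
      have hAo : (orbit St (1 : V0)).ncard ≤ 5 := by
        refine le_trans (Set.ncard_le_ncard (t := ℓ) ?_ (Set.toFinite _))
          (le_of_eq (by rw [← hSℓ, ← hSn, h4]))
        rintro _ ⟨k, rfl⟩
        have hk : (k : SL) • ℓ = ℓ := k.2
        rw [← hk]
        exact Set.smul_mem_smul_set (hSℓ ▸ h1S)
      have hB := card_orbit_mul (K := stabilizer SL (1 : V0)) ℓ
      rw [card_stab_one] at hB
      obtain ⟨hcl, hcw, hcd⟩ := F.cs
      have hBo : 5 ≤ (orbit (stabilizer SL (1 : V0)) ℓ).ncard := by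
        have hw : ∀ i : Fin 5, ltOK 6 (cs.getD i []) = true ∧
            lw (cs.getD i []) ∈ stabilizer SL (1 : V0) := by
          intro i
          have hm : cs.getD i [] ∈ cs := by
            rw [List.getD_eq_getElem _ _ (by omega)]; exact List.getElem_mem _
          have := allL_spec hcw _ hm
          rw [andB_eq, Bool.and_eq_true, beq_iff] at this
          exact ⟨this.1, lw_mem_stab this.1 this.2⟩
        let f : Fin 5 → Set V0 := fun i => lw (cs.getD i []) • ℓ
        have key : ∀ i j : Fin 5, (j : ℕ) < i → f i ≠ f j := by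
          intro i j hji e
          have hs := List.all_eq_true.mp (List.all_eq_true.mp hcd i (List.mem_range.mpr i.2)) j
            (List.mem_range.mpr hji)
          simp only [lineSep, Bool.not_eq_true', Bool.eq_false_iff, ne_eq] at hs
          refine hs (allL_intro fun t ht => ?_)
          have ht' : t < 1782 := blt_iff.mp (allL_spec F.lnlt t ht)
          obtain ⟨hi1, -⟩ := hw i
          obtain ⟨hj1, -⟩ := hw j
          have hmem : lw (cs.getD i []) • (⟨t, ht'⟩ : V0) ∈ f i :=
            Set.smul_mem_smul_set (show memN t ln = true from memN_of_mem ht)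
          rw [e] at hmem
          obtain ⟨x, hx, hxe⟩ := hmem
          have : lw (cs.getD i [] ++ (cs.getD j []).reverse) • (⟨t, ht'⟩ : V0) ∈ ℓ := by
            rw [lw_append hi1 (ltOK_reverse hj1), mul_smul, lw_reverse hj1, ← hxe, inv_smul_smul]
            exact hx
          have h2 := lw_val (ltOK_append hi1 (ltOK_reverse hj1)) (⟨t, ht'⟩ : V0)
          show memN (wk _ t) ln = true
          rw [← h2]
          exact this
        have hf : Function.Injective f := by
          intro i j e
          rcases lt_trichotomy (i : ℕ) j with h | h | h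
          · exact absurd e.symm (key j i h)
          · exact Fin.ext h
          · exact absurd e (key i j h)
        refine le_trans (le_of_eq ?_) (Set.ncard_le_ncard (s := Set.range f) ?_ (Set.toFinite _))
        · rw [Set.ncard_range_of_injective hf, Nat.card_fin]
        · rintro _ ⟨i, rfl⟩
          exact ⟨⟨_, (hw i).2⟩, rfl⟩
      have e : Nat.card (stabilizer St (1 : V0)) =
          Nat.card (stabilizer (stabilizer SL (1 : V0)) ℓ) :=
        Nat.card_congr
          { toFun := fun x => ⟨⟨x.1.1, x.2⟩, x.1.2⟩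
            invFun := fun x => ⟨⟨x.1.1, x.2⟩, x.1.2⟩
            left_inv := fun _ => rfl
            right_inv := fun _ => rfl }
      rw [← hA, e]
      calc _ ≤ 5 * Nat.card (stabilizer (stabilizer SL (1 : V0)) ℓ) := Nat.mul_le_mul_right _ hAo
        _ ≤ (orbit (stabilizer SL (1 : V0)) ℓ).ncard *
            Nat.card (stabilizer (stabilizer SL (1 : V0)) ℓ) := Nat.mul_le_mul_right _ hBo
        _ = 184320 := hB
    have heq : H' = St := Subgroup.eq_of_le_of_card_ge hle (by rw [hH'c]; exact hSt1)
    intro T hT hTinv hn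
    set T' := g⁻¹ • T with hT'
    have hinvT' : ∀ h ∈ H', ∀ x ∈ T', h • x ∈ T' := by
      intro h hh x hx
      rw [hT', Set.mem_inv_smul_set_iff] at hx ⊢
      have := hTinv _ hh (g • x) hx
      show g • h • x ∈ T
      rw [show (MulAut.conj g).toMonoidHom h = g * h * g⁻¹ from rfl] at this
      simpa [mul_smul] using this
    have hgens : InGroup H' lws := by
      intro w hw
      have := allL_spec F.lgens w hw
      rw [andB_eq, Bool.and_eq_true] at this
      refine ⟨this.1, heq ▸ stabOf _ fun t ht => ?_⟩
      show memN ((lw w • t : V0) : ℕ) ln = true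
      rw [lw_val this.1]
      exact allL_spec this.2 _ (memN_spec ht)
    have hsub : T' ⊆ pset Suz1782.orb1 := by
      intro x hx
      rw [hT', Set.mem_inv_smul_set_iff] at hx
      have := hT hx
      rw [← orbit_47] at this ⊢
      have h2 := orbit_eq_iff.mpr this
      rw [← orbit_eq_iff] at this ⊢
      rw [← orbit_smul g x]; exact h2
    have := ncard_mem_subsums F.lreach F.ldisj T'
      (fun O hO => pset_dichotomy (F.lreach O hO) hgens hinvT')
      (fun x hx => cover_spec F.lcover (hsub hx) (by have := x.2; omega))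
    rw [hT', Set.ncard_smul_set, hn, ← List.contains_iff_mem, F.lsums] at this
    exact Bool.noConfusion this

end Main

end Cfsg.Agent.Lib.SuzRank3
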