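import Cfsg.Agent.Lib.SuzRank3.Sub416Main
import Cfsg.Agent.Lib.SuzRank3.Sub1365
import Cfsg.Agent.Lib.SuzRank3.Data.ClsOK1
import Cfsg.Agent.Lib.SuzRank3.Data.ClsOK2
import Cfsg.Agent.Lib.SuzRank3.Data.ClsOK3
import Cfsg.Agent.Lib.SuzRank3.Data.ClsOK4
import Cfsg.Agent.Lib.SuzRank3.Data.TablesOK
import Cfsg.Agent.Lib.SuzRank3.Data.RowsOK1
import Cfsg.Agent.Lib.SuzRank3.Data.RowsOK2
import Cfsg.Agent.Lib.SuzRank3.Data.RowsOK3
import Cfsg.Agent.Lib.SuzRank3.Data.RowsOK4
import Cfsg.Agent.Lib.SuzRank3.Data.RowsOK5
import Cfsg.Agent.Lib.SuzRank3.Data.RowsOK6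
import Cfsg.Agent.Lib.SuzRank3.Data.RepsOK1
import Cfsg.Agent.Lib.SuzRank3.Data.RepsOK2
import Cfsg.Agent.Lib.SuzRank3.Data.RepsOK3
import Cfsg.Agent.Lib.SuzRank3.Data.RepsOK4
import Cfsg.Agent.Lib.SuzRank3.Data.PtsOK
import Cfsg.Agent.Lib.SuzRank3.Data.Orbs

/-!
The certificates for the rank three graph, assembled.
-/

set_option autoImplicit false
set_option maxRecDepth 20000
set_option linter.style.haveILetI false
set_option Elab.async false

namespace Cfsg.Agent.Lib.SuzRank3

open MulAction
open Cfsg.Agent.Lib.CosetTable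
open Data

theorem belowOf {p : ℕ → Bool} {n : ℕ} (h : rangeAll p n 0 = true) : Below p n :=
  fun j hj => rangeAll_spec h j (Nat.zero_le _) (by omega)

theorem rowsA_rows : ∀ q ∈ rowsA, RowOK q := by
  simp only [rowsA, List.forall_mem_cons]
  exact ⟨row14_ok, row1772_ok, row1350_ok, row1610_ok, row1442_ok, row1369_ok, row113_ok, row469_ok, row463_ok, row537_ok, row1314_ok, row437_ok, row89_ok, row24_ok, row2_ok, row756_ok, row696_ok, row653_ok, row404_ok, row304_ok, row995_ok, row271_ok, row125_ok, row79_ok, row47_ok, row0_ok, fun _ h => absurd h List.not_mem_nil⟩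

theorem rowsFA_rows : ∀ q ∈ rowsFA, RowOK q := by
  simp only [rowsFA, List.forall_mem_cons]
  exact ⟨row12_ok, row90_ok, row21_ok, row40_ok, row20_ok, row48_ok, row4_ok, row905_ok, row1760_ok, row1756_ok, row611_ok, row1002_ok, row703_ok, row1699_ok, row1627_ok, row900_ok, row688_ok, row696_ok, row907_ok, row695_ok, row689_ok, row321_ok, row478_ok, row324_ok, row465_ok, row421_ok, row205_ok, row0_ok, fun _ h => absurd h List.not_mem_nil⟩

theorem rowsF_rows : ∀ q ∈ rowsF, RowOK q := by
  simp only [rowsF, List.forall_mem_cons]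
  exact ⟨row905_ok, row1760_ok, row1756_ok, row611_ok, row1002_ok, row703_ok, row1699_ok, row1627_ok, row900_ok, row688_ok, row696_ok, row907_ok, row695_ok, row689_ok, row321_ok, row478_ok, row324_ok, row465_ok, row421_ok, row205_ok, row0_ok, fun _ h => absurd h List.not_mem_nil⟩

theorem zero_rows : ∀ q ∈ [(0, row0)], RowOK q := by
  simp only [List.forall_mem_cons]
  exact ⟨row0_ok, fun _ h => absurd h List.not_mem_nil⟩

theorem chainA_rows : ∀ s ∈ chainA, RowOK s.1 := by
  simp only [chainA, List.forall_mem_cons]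
  exact ⟨row47_ok, row79_ok, row125_ok, row271_ok, row995_ok, row304_ok, row404_ok, row653_ok, row696_ok, row756_ok, row2_ok, row24_ok, row89_ok, row437_ok, row1314_ok, row537_ok, row463_ok, row469_ok, row113_ok, row1369_ok, row1442_ok, row1610_ok, row1350_ok, row1772_ok, row14_ok, fun _ h => absurd h List.not_mem_nil⟩

theorem chainF_rows : ∀ s ∈ chainF, RowOK s.1 := by
  simp only [chainF, List.forall_mem_cons]
  exact ⟨row4_ok, row48_ok, row20_ok, row40_ok, row21_ok, row90_ok, row12_ok, fun _ h => absurd h List.not_mem_nil⟩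

theorem sepA_run : rangeAll (sepOK rowsA) 1782 0 = true := by decide +kernel

theorem sepA : Sep rowsA := ⟨rowsA_rows, (Below.zero _).step (b := 1782) sepA_run rfl⟩

theorem sepFA_run : rangeAll (sepOK rowsFA) 1782 0 = true := by decide +kernel

theorem sepFA : Sep rowsFA := ⟨rowsFA_rows, (Below.zero _).step (b := 1782) sepFA_run rfl⟩

theorem Sep.card_fixRows {rows : List (ℕ × ℕ)} (S : Sep rows) : Nat.card (fixRows rows) = 1 := by
  rw [Subgroup.card_eq_one, Subgroup.eq_bot_iff_forall]
  exact fun σ hσ => eq_one_of_sep S.row S.sep hσ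

theorem card_aut0_le : Nat.card aut0 ≤ 503193600 := by
  have h := chain_bound chainA [(0, row0)] zero_rows chainA_rows (by decide +kernel)
  rw [show chainRows [(0, row0)] chainA = rowsA from rfl, sepA.card_fixRows, mul_one,
    show chainProd chainA = 503193600 from by decide +kernel] at h
  refine le_trans (le_of_eq ?_) h
  congr 2
  ext σ
  refine ⟨fun h => ⟨h, fun q hq b hb => ?_⟩, fun h => h.1⟩
  rw [List.mem_singleton.mp hq] at hb
  rw [show b = 0 from Fin.ext hb]
  exact h.2

theorem card_fixF_le : Nat.card (fixRows rowsF) ≤ 3 := by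
  have h := chain_bound chainF rowsF rowsF_rows chainF_rows (by decide +kernel)
  rw [show chainRows rowsF chainF = rowsFA from rfl, sepFA.card_fixRows, mul_one,
    show chainProd chainF = 3 from by decide +kernel] at h
  exact h

theorem cls_ok : Below cd.chk 2080 :=
  cls_part4 (cls_part3 (cls_part2 (cls_part1 (Below.zero _))))

theorem classOK : ClassOK cd rowsA rowsF where
  link := link_ok
  chk := cls_ok
  zmask := (Below.zero _).step (b := 416) zmask_run rfl
  sep := sepA
  pow3 := by decide +kernel
  inv := ⟨[3], by decide, by decide +kernel⟩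
  bound := card_fixF_le
  rowsF := by decide +kernel

theorem p5OK : P5OK cd pd rowsA where
  words := by decide +kernel
  p_lt := by decide
  fixp := by decide +kernel
  comm := by decide +kernel
  powu := by decide +kernel
  powv := by decide +kernel
  perms := (Below.zero _).step (b := 25) perms_run1 rfl
  bad := bad_ok
  pts := (Below.zero _).step (b := 416) pts_run rfl
  repsOK := by
    simp only [pd, List.forall_mem_cons]
    exact ⟨rep6_ok, rep13_ok, rep19_ok, rep23_ok, rep24_ok, rep26_ok, rep29_ok, rep35_ok, rep40_ok, rep46_ok, rep51_ok, rep52_ok, rep57_ok, rep59_ok, rep64_ok, rep65_ok, rep67_ok, rep70_ok, rep79_ok, rep84_ok, rep86_ok, rep88_ok, rep95_ok, rep100_ok, rep106_ok, rep110_ok, rep118_ok, rep119_ok, rep123_ok, rep124_ok, rep141_ok, rep143_ok, rep157_ok, rep162_ok, rep176_ok, rep189_ok, rep201_ok, rep202_ok, rep204_ok, rep205_ok, rep209_ok, rep238_ok, rep239_ok, rep248_ok, rep261_ok, rep274_ok, rep276_ok, rep277_ok, rep290_ok, rep306_ok, rep335_ok, rep339_ok, rep340_ok, rep344_ok, rep373_ok, rep415_ok, rep427_ok,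 rep428_ok, rep450_ok, rep452_ok, rep471_ok, rep500_ok, rep512_ok, rep614_ok, rep638_ok, rep679_ok, rep714_ok, rep721_ok, rep1007_ok, rep1109_ok, rep1113_ok, rep1442_ok, fun _ h => absurd h List.not_mem_nil⟩
  osOK := by
    simp only [pd, List.forall_mem_cons]
    exact ⟨pt0_ok, pt2_ok, pt4_ok, pt8_ok, pt10_ok, pt11_ok, pt17_ok, pt19_ok, pt23_ok, pt27_ok, pt35_ok, pt43_ok, pt48_ok, pt53_ok, pt130_ok, pt160_ok, pt179_ok, pt182_ok, pt206_ok, fun _ h => absurd h List.not_mem_nil⟩

theorem uorbs_reach : ∀ O ∈ [uorb0, uorb1, uorb2, uorb3, uorb4, uorb5],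
    Below (O.reachOK Suz1782.tab (ucs.map Prod.fst)) O.m := by
  simp only [List.forall_mem_cons]
  exact ⟨belowOf (n := 1) (by decide +kernel),
    belowOf (n := 4) (by decide +kernel),
    belowOf (n := 16) (by decide +kernel),
    belowOf (n := 64) (by decide +kernel),
    belowOf (n := 256) (by decide +kernel),
    belowOf (n := 1024) (by decide +kernel), fun _ h => absurd h List.not_mem_nil⟩

theorem lorbs_reach : ∀ O ∈ [lorb0, lorb1], Below (O.reachOK Suz1782.tab lineWs) O.m := by
  simp only [List.forall_mem_cons]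
  exact ⟨belowOf (n := 160) (by decide +kernel),
    belowOf (n := 256) (by decide +kernel), fun _ h => absurd h List.not_mem_nil⟩

theorem lineOK : LineOK rowsA ucs lnPts uorb0 uorb1 [uorb2, uorb3, uorb4, uorb5] lineWs
    [lorb0, lorb1] lineMoves where
  sep := sepA
  chain := by decide +kernel
  reach := uorbs_reach
  disj := by decide +kernel
  cover := belowOf (n := 1365) (by decide +kernel)
  ok1 := by decide +kernel
  ok4 := rfl
  line := belowOf (n := 1782) (by decide +kernel)
  lnlt := by decide +kernel
  fix1 := by decide +kernel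
  sums := by decide +kernel
  lgens := by decide +kernel
  lreach := lorbs_reach
  ldisj := by decide +kernel
  lcover := belowOf (n := 416) (by decide +kernel)
  lsums := by decide +kernel
  cs := by decide +kernel

theorem jPieces : PiecesOK (stabilizer SL (47 : V0)) Suz1782.orb1 47 jWs [jorb1, jorb0] where
  gens := fun w hw => by
    have := allL_spec (show allL (fun w => andB (ltOK 6 w) (Nat.beq (wk w 47) 47)) jWs = true by
      decide +kernel) w hw
    rw [andB_eq, Bool.and_eq_true, beq_iff] at this
    exact ⟨this.1, lw_mem_stab this.1 this.2⟩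
  reach := by
    simp only [List.forall_mem_cons]
    exact ⟨belowOf (n := 100) (by decide +kernel),
      belowOf (n := 315) (by decide +kernel),
      fun _ h => absurd h List.not_mem_nil⟩
  disj := by decide +kernel
  cover := belowOf (n := 416) (by decide +kernel)

theorem pWs_gens : InGroup (stabilizer SL (1 : V0)) pWs := fun w hw => by
  have := allL_spec (show allL (fun w => andB (ltOK 6 w) (Nat.beq (wk w 1) 1)) pWs = true by
    decide +kernel) w hw
  rw [andB_eq, Bool.and_eq_true, beq_iff] at this
  exact ⟨this.1, lw_mem_stab this.1 this.2⟩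

theorem pPieces1 : PiecesOK (stabilizer SL (1 : V0)) Suz1782.orb1 1782 pWs [porb1, porb0] where
  gens := pWs_gens
  reach := by
    simp only [List.forall_mem_cons]
    exact ⟨belowOf (n := 96) (by decide +kernel),
      belowOf (n := 320) (by decide +kernel),
      fun _ h => absurd h List.not_mem_nil⟩
  disj := by decide +kernel
  cover := belowOf (n := 416) (by decide +kernel)

theorem pPieces2 : PiecesOK (stabilizer SL (1 : V0)) Suz1782.orb2 1 pWs [porb4, porb2, porb3] where
  gens := pWs_gens
  reach := by
    simp only [List.forall_mem_cons]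
    exact ⟨belowOf (n := 320) (by decide +kernel),
      belowOf (n := 1024) (by decide +kernel),
      belowOf (n := 20) (by decide +kernel),
      fun _ h => absurd h List.not_mem_nil⟩
  disj := by decide +kernel
  cover := belowOf (n := 1365) (by decide +kernel)

/-- the facts about the stabiliser -/
noncomputable def facts : Facts SL where
  q1 := 47
  q2 := 1
  q100 := 79
  q96 := 130
  q320 := 25
  fix0 := fix0
  card := SL_card
  card1 := by rw [orbit_47, ncard_pset orb1_reach]; rfl
  card2 := by rw [orbit_1, ncard_pset orb2_reach]; rfl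
  sub416 := sub416_main classOK p5OK
  sub1365 := fun H hH => by
    rw [orbit_47]
    exact sub1365_main lineOK H hH
  sub100 := fun T hT hinv => by
    rw [orbit_47] at hT
    have hne : ∀ x ∈ T, (x : ℕ) ≠ 47 := fun x hx e =>
      (hT hx).2 (Set.mem_singleton_iff.mpr (Fin.ext e))
    have hA : T ⊆ pset Suz1782.orb1 := fun x hx => (hT hx).1
    have h := jPieces.ncard T hA hne hinv
    rw [show subsums (([jorb1, jorb0] : List Orb).map Orb.m) = [0, 315, 100, 415] from rfl] at h
    simp only [List.mem_cons, List.not_mem_nil, or_false] at h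
    rcases h with h | h | h | h
    · exact Or.inl h
    · exact Or.inr (Or.inl h)
    · refine Or.inr (Or.inr (Or.inr ⟨h, ?_⟩))
      exact jPieces.unique hA hne hinv h (by decide) (show jorb1.mem 79 = true by decide +kernel)
    · exact Or.inr (Or.inr (Or.inl h))
  sub96 := fun T hT hinv hn => by
    rw [orbit_47] at hT
    exact pPieces1.unique hT (fun x _ => by have := x.2; omega) hinv hn (by decide)
      (show porb1.mem 130 = true by decide +kernel)
  sub320 := fun T hT hinv hn => by
    rw [orbit_1] at hT
    exact pPieces2.unique (fun x hx => (hT hx).1)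
      (fun x hx e => (hT hx).2 (Set.mem_singleton_iff.mpr (Fin.ext e))) hinv hn (by decide)
      (show porb4.mem 25 = true by decide +kernel)

end Cfsg.Agent.Lib.SuzRank3
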