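import Cfsg.Agent.Lib.SuzRank3.Index

/-!
A class of elements of order three with 56 fixed points in the small suborbit, from tables of the
fixed point masks.
-/

set_option autoImplicit false
set_option linter.style.haveILetI false

namespace Cfsg.Agent.Lib.SuzRank3

open MulAction
open Cfsg.Agent.Lib.CosetTable

/-- the representative of the class -/
noncomputable def zz : SL := lw [3, 4]

/-- the class -/
def InC (y : SL) : Prop := ∃ g : SL, g * zz * g⁻¹ = y

theorem InC.conj {y : SL} (h : InC y) (g : SL) : InC (g * y * g⁻¹) := by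
  obtain ⟨k, rfl⟩ := h
  exact ⟨g * k, by group⟩

/-- the tables -/
structure ClassData where
  /-- the index table -/
  tbl : Table
  /-- the points of each mask -/
  pts : T
  /-- the masks -/
  masks : T
  /-- for each generator, the image of each mask -/
  hints : List ℕ
  /-- predecessors -/
  parK : ℕ
  /-- generators leading from the predecessors -/
  parG : ℕ
  /-- the masks in increasing order -/
  srt : ℕ
  /-- the position of each mask in that order -/
  rk : ℕ

namespace ClassData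

variable (D : ClassData)

/-- the points of mask `k` -/
noncomputable def pk (k : ℕ) : ℕ := D.pts.leafAt k
/-- mask `k` -/
noncomputable def msk (k : ℕ) : ℕ := D.masks.leafAt k
/-- image of mask `k` under a generator -/
noncomputable def hint (g k : ℕ) : ℕ := at16 (natAt D.hints g) k

/-- the edge of generator `g` at mask `k` -/
noncomputable def edgeChk (k g : ℕ) : Bool :=
  force (D.hint g k) fun k' => andB (Nat.blt k' 2080) (andB (Nat.beq (D.hint g k') k)
    (iteB (Nat.ble k k') (Nat.beq (imgMask (D.tbl.act g) (D.pk k)) (D.msk k')) true))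

/-- everything about mask `k` -/
noncomputable def chk (k : ℕ) : Bool :=
  andB (rangeAll (fun j => Nat.blt (at16 (D.pk k) j) 416) 56 0)
  (andB (Nat.beq (imgMask (fun i => i) (D.pk k)) (D.msk k))
  (andB (rangeAll (D.edgeChk k) 6 0)
  (andB (iteB (Nat.beq k 0) true (andB (Nat.blt (at16 D.parK k) k) (andB (Nat.blt (at16 D.parG k) 6)
      (Nat.beq (D.hint (at16 D.parG k) (at16 D.parK k)) k))))
  (andB (andB (Nat.blt (at16 D.rk k) 2080) (Nat.beq (at16 D.srt (at16 D.rk k)) k))
    (iteB (Nat.blt (Nat.succ k) 2080)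
      (Nat.blt (D.msk (at16 D.srt k)) (D.msk (at16 D.srt (Nat.succ k)))) true)))))

/-- the representative of a class element, as a word -/
noncomputable def pathW (fuel : ℕ) : ℕ → List ℕ :=
  Nat.rec (motive := fun _ => ℕ → List ℕ) (fun _ => [3, 4])
    (fun _ ih k => iteB (Nat.beq k 0) [3, 4]
      (at16 D.parG k :: (ih (at16 D.parK k) ++ [at16 D.parG k]))) fuel

/-- the path of `k` reaches the root -/
noncomputable def rootOK (fuel : ℕ) : ℕ → Bool :=
  Nat.rec (motive := fun _ => ℕ → Bool) (fun k => Nat.beq k 0)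
    (fun _ ih k => iteB (Nat.beq k 0) true (ih (at16 D.parK k))) fuel

end ClassData

/-- the checked facts -/
structure ClassOK (D : ClassData) (rows rowsF : List (ℕ × ℕ)) : Prop where
  link : Linked D.tbl
  chk : Below D.chk 2080
  zmask : Below (fun i => cond (bitB (D.msk 0) i) (Nat.beq (D.tbl.walk [3, 4] i) i)
    (! Nat.beq (D.tbl.walk [3, 4] i) i)) 416
  sep : Sep rows
  pow3 : baseEq (rows.map Prod.fst) [3, 4, 3, 4, 3, 4] [] = true
  inv : ∃ w, ltOK 6 w = true ∧
    baseEq (rows.map Prod.fst) (w.reverse ++ [3, 4] ++ w) [4, 3] = true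
  bound : Nat.card (fixRows rowsF) ≤ 3
  rowsF : allL (fun q => Nat.beq q.1 0 || (Suz1782.orb1.mem q.1 &&
    bitB (D.msk 0) (Suz1782.orb1.idx q.1))) rowsF = true

namespace ClassOK

variable {D : ClassData} {rows rowsF : List (ℕ × ℕ)} (C : ClassOK D rows rowsF)

include C in
theorem chk_spec {k : ℕ} (hk : k < 2080) :
    (∀ j < 56, at16 (D.pk k) j < 416) ∧ imgMask (fun i => i) (D.pk k) = D.msk k ∧
    (∀ g < 6, D.hint g k < 2080 ∧ D.hint g (D.hint g k) = k ∧
      (k ≤ D.hint g k → imgMask (D.tbl.act g) (D.pk k) = D.msk (D.hint g k))) ∧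
    (k ≠ 0 → at16 D.parK k < k ∧ at16 D.parG k < 6 ∧
      D.hint (at16 D.parG k) (at16 D.parK k) = k) ∧
    at16 D.rk k < 2080 ∧ at16 D.srt (at16 D.rk k) = k ∧
    (k + 1 < 2080 → D.msk (at16 D.srt k) < D.msk (at16 D.srt (k + 1))) := by
  have h := C.chk k hk
  simp only [ClassData.chk, andB_eq, iteB_eq, Bool.and_eq_true] at h
  obtain ⟨h1, h2, h3, h4, ⟨h5, h6⟩, h7⟩ := h
  refine ⟨fun j hj => blt_iff.mp (rangeAll_spec h1 j (Nat.zero_le _) (by omega)), beq_iff.mp h2,
    fun g hg => ?_, fun h0 => ?_, blt_iff.mp h5, beq_iff.mp h6, fun hk1 => ?_⟩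
  · have e := rangeAll_spec h3 g (Nat.zero_le _) (by omega)
    simp only [ClassData.edgeChk, force_eq, andB_eq, iteB_eq, Bool.and_eq_true, beq_iff,
      blt_iff] at e
    refine ⟨e.1, e.2.1, fun hle => ?_⟩
    have e3 := e.2.2
    rw [ble_iff.mpr hle] at e3
    exact beq_iff.mp e3
  · have hb : Nat.beq k 0 = false := Bool.eq_false_iff.mpr fun e => h0 (beq_iff.mp e)
    rw [hb] at h4
    simp only [cond_false, Bool.and_eq_true, beq_iff, blt_iff] at h4
    exact h4
  · rw [blt_iff.mpr hk1] at h7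
    exact blt_iff.mp h7

include C in
theorem testBit_msk {k : ℕ} (hk : k < 2080) {i : ℕ} :
    (D.msk k).testBit i = true ↔ ∃ j < 56, at16 (D.pk k) j = i := by
  rw [← (C.chk_spec hk).2.1, testBit_imgMask]

include C in
theorem msk_lt {k : ℕ} (hk : k < 2080) : D.msk k < 2 ^ 416 := by
  refine Nat.lt_pow_two_of_testBit _ fun i hi => Bool.eq_false_iff.mpr fun h => ?_
  obtain ⟨j, hj, rfl⟩ := (C.testBit_msk hk).mp h
  exact absurd ((C.chk_spec hk).1 j hj) (by omega)

include C in
theorem msk_injective {k k' : ℕ} (hk : k < 2080) (hk' : k' < 2080) (h : D.msk k = D.msk k') :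
    k = k' := by
  have mono : ∀ b a : ℕ, a < b → b < 2080 →
      D.msk (at16 D.srt a) < D.msk (at16 D.srt b) := by
    intro b
    induction b with
    | zero => intro a ha; omega
    | succ b ih =>
      intro a ha hb
      have s := (C.chk_spec (k := b) (by omega)).2.2.2.2.2.2 hb
      rcases Nat.lt_succ_iff_lt_or_eq.mp ha with ha | rfl
      · exact (ih a ha (by omega)).trans s
      · exact s
  obtain ⟨-, -, -, -, r1, r2, -⟩ := C.chk_spec hk
  obtain ⟨-, -, -, -, r1', r2', -⟩ := C.chk_spec hk'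
  rcases lt_trichotomy (at16 D.rk k) (at16 D.rk k') with e | e | e
  · have := mono _ _ e r1'; rw [r2, r2', h] at this; omega
  · rw [← r2, ← r2', e]
  · have := mono _ _ e r1; rw [r2, r2', h] at this; omega

include C in
theorem zz_mask : HasMask zz (D.msk 0) := by
  refine ⟨C.msk_lt (by norm_num), fun i => ?_⟩
  obtain ⟨h, e⟩ := Linked.walk C.link (w := [3, 4]) rfl i
  have hi : cond (bitB (D.msk 0) i) (Nat.beq (D.tbl.walk [3, 4] i) i)
    (! Nat.beq (D.tbl.walk [3, 4] i) i) = true := C.zmask i i.2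
  rw [bitB_eq] at hi
  rw [show zz = lw [3, 4] from rfl, e, qq_injective.eq_iff, Fin.ext_iff]
  show _ ↔ D.tbl.walk [3, 4] i = i
  cases hb : (D.msk 0).testBit i <;> simp only [hb, cond_true, cond_false] at hi
  · simp only [Bool.not_eq_true', Bool.eq_false_iff, ne_eq, beq_iff] at hi
    simp [hi]
  · simp [beq_iff.mp hi]

include C in
theorem mask_gen {y : SL} {k g : ℕ} (hk : k < 2080) (hg : g < 6) (h : HasMask y (D.msk k)) :
    HasMask (lw [g] * y * (lw [g])⁻¹) (D.msk (D.hint g k)) := by
  obtain ⟨h1, h2, -⟩ := (C.chk_spec hk).2.2.1 g hg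
  refine h.conj (C.msk_lt h1) fun i j hij => ?_
  have hs : ltOK 6 [g] = true := by
    show andB (Nat.blt g 6) true = true
    rw [andB_eq, blt_iff.mpr hg]; rfl
  obtain ⟨hi', e⟩ := Linked.walk C.link hs i
  have hj : (j : ℕ) = D.tbl.act g i := by
    rw [e] at hij
    have := congrArg Fin.val (qq_injective hij)
    simp only at this
    rw [← this]
    show force (D.tbl.act g i) (fun x => x) = _
    rw [force_eq]
  have back : ∀ x : Fin 416, D.tbl.act g x < 416 ∧
      D.tbl.act g (D.tbl.act g x) = x := by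
    intro x
    obtain ⟨hx, ex⟩ := Linked.walk C.link hs x
    obtain ⟨hy, ey⟩ := Linked.walk C.link hs ⟨_, hx⟩
    have hsq : lw [g] * lw [g] = 1 := Subtype.ext (by
      rw [Subgroup.coe_mul, lw_coe hs, eval_singleton, Subgroup.coe_one, pp_invol (by omega)])
    have : qq x = qq ⟨_, hy⟩ := by rw [← ey, ← ex, smul_smul, hsq, one_smul]
    have e1 := congrArg Fin.val (qq_injective this)
    have hw : ∀ z, D.tbl.walk [g] z = D.tbl.act g z := fun z => by
      show force (D.tbl.act g z) (fun x => x) = _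
      rw [force_eq]
    simp only [hw] at e1 hx
    exact ⟨hx, e1.symm⟩
  have key : ∀ {k : ℕ}, k < 2080 → k ≤ D.hint g k → ∀ x : Fin 416,
      (D.msk (D.hint g k)).testBit (D.tbl.act g x) = true ↔ (D.msk k).testBit x = true := by
    intro k hk hle x
    obtain ⟨hp, -, he, -⟩ := C.chk_spec hk
    rw [← (he g hg).2.2 hle, testBit_imgMask, C.testBit_msk hk]
    refine exists_congr fun t => and_congr_right fun ht => ⟨fun e => ?_, fun e => by rw [e]⟩
    have := congrArg (D.tbl.act g) e
    rwa [(back ⟨_, hp t ht⟩).2, (back x).2] at this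
  rw [hj]
  by_cases hle : k ≤ D.hint g k
  · exact key hk hle i
  · have := key h1 (by rw [h2]; omega) ⟨_, (back i).1⟩
    rw [h2] at this
    simp only [(back i).2] at this
    exact this.symm

include C in
theorem exists_mask {y : SL} (hy : InC y) : ∃ k < 2080, HasMask y (D.msk k) := by
  obtain ⟨g, rfl⟩ := hy
  let P : SL → Prop := fun y => ∃ k < 2080, HasMask y (D.msk k)
  suffices ∀ l : SL, ∀ y, P y → P (l * y * l⁻¹) ∧ P (l⁻¹ * y * l) from
    (this g zz ⟨0, by norm_num, C.zz_mask⟩).1
  rintro ⟨l, hl⟩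
  have hl' := hl
  rw [SL_eq_closure] at hl'
  induction hl' using Subgroup.closure_induction with
  | mem x hx =>
    obtain ⟨g, hg, rfl⟩ := hx
    have hs : ltOK 6 [g] = true := by
      show andB (Nat.blt g 6) true = true
      rw [andB_eq, blt_iff.mpr hg]; rfl
    have e : (⟨pp g, hl⟩ : SL) = lw [g] := Subtype.ext (by rw [lw_coe hs, eval_singleton])
    have ei : (lw [g])⁻¹ = lw [g] := by rw [← lw_reverse hs]; rfl
    rintro y ⟨k, hk, h⟩
    rw [e]
    have h' : P (lw [g] * y * (lw [g])⁻¹) :=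
      ⟨_, ((C.chk_spec hk).2.2.1 g hg).1, C.mask_gen hk hg h⟩
    exact ⟨h', by rw [ei] at h' ⊢; exact h'⟩
  | one =>
    intro y hy
    have e : (⟨1, hl⟩ : SL) = 1 := rfl
    rw [e]; simp [hy]
  | mul a b ha hb iha ihb =>
    intro y hy
    rw [← SL_eq_closure] at ha hb
    have e : (⟨a * b, hl⟩ : SL) = ⟨a, ha⟩ * ⟨b, hb⟩ := rfl
    rw [e]
    refine ⟨?_, ?_⟩
    · have := (iha ha _ (ihb hb y hy).1).1
      convert this using 1; group
    · have := (ihb hb _ (iha ha y hy).2).2
      convert this using 1; group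
  | inv a ha ih =>
    intro y hy
    rw [← SL_eq_closure] at ha
    have e : (⟨a⁻¹, hl⟩ : SL) = (⟨a, ha⟩ : SL)⁻¹ := rfl
    rw [e, inv_inv]
    exact (ih ha y hy).symm

include C in
theorem pathW_spec : ∀ fuel k, k < 2080 → D.rootOK fuel k = true →
    ltOK 6 (D.pathW fuel k) = true ∧ InC (lw (D.pathW fuel k)) ∧
      HasMask (lw (D.pathW fuel k)) (D.msk k) := by
  intro fuel
  induction fuel with
  | zero =>
    intro k _ h
    obtain rfl : k = 0 := beq_iff.mp h
    exact ⟨rfl, ⟨1, by simp [zz, ClassData.pathW]⟩, C.zz_mask⟩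
  | succ f ih =>
    intro k hk h
    show ltOK 6 (iteB _ _ _) = true ∧ InC (lw (iteB _ _ _)) ∧ HasMask (lw (iteB _ _ _)) _
    change iteB (Nat.beq k 0) true (D.rootOK f (at16 D.parK k)) = true at h
    rw [iteB_eq] at h ⊢
    cases hb : Nat.beq k 0
    · have h0 : k ≠ 0 := fun e => by rw [e] at hb; exact Bool.noConfusion hb
      obtain ⟨h1, h2, h3⟩ := (C.chk_spec hk).2.2.2.1 h0
      rw [hb] at h
      obtain ⟨il, ic, im⟩ := ih _ (h1.trans hk) h
      change ltOK 6 (D.pathW f (at16 D.parK k)) = true at il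
      have hs : ltOK 6 [at16 D.parG k] = true := by
        show andB (Nat.blt _ 6) true = true
        rw [andB_eq, blt_iff.mpr h2]; rfl
      have ei : (lw [at16 D.parG k])⁻¹ = lw [at16 D.parG k] := by rw [← lw_reverse hs]; rfl
      show ltOK 6 ([at16 D.parG k] ++ (D.pathW f _ ++ [at16 D.parG k])) = true ∧
        InC (lw ([at16 D.parG k] ++ (D.pathW f _ ++ [at16 D.parG k]))) ∧
        HasMask (lw ([at16 D.parG k] ++ (D.pathW f _ ++ [at16 D.parG k]))) _
      refine ⟨ltOK_append hs (ltOK_append il hs), ?_⟩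
      rw [lw_append hs (ltOK_append il hs), lw_append il hs]
      have e : lw [at16 D.parG k] * lw (D.pathW f (at16 D.parK k)) * lw [at16 D.parG k] =
          lw [at16 D.parG k] * lw (D.pathW f (at16 D.parK k)) * (lw [at16 D.parG k])⁻¹ := by
        rw [ei]
      rw [e]
      refine ⟨ic.conj _, ?_⟩
      have := C.mask_gen (h1.trans hk) h2 im
      rwa [h3] at this
    · obtain rfl : k = 0 := beq_iff.mp hb
      exact ⟨rfl, ⟨1, by simp [zz]⟩, C.zz_mask⟩

include C in
theorem exists_elt : ∀ {k : ℕ}, k < 2080 → ∃ y, InC y ∧ HasMask y (D.msk k) := by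
  intro k
  induction k using Nat.strongRecOn with
  | _ k IH =>
    intro hk
    by_cases h0 : k = 0
    · subst h0; exact ⟨zz, ⟨1, by simp⟩, C.zz_mask⟩
    · obtain ⟨h1, h2, h3⟩ := (C.chk_spec hk).2.2.2.1 h0
      obtain ⟨y, hy, hm⟩ := IH _ h1 (h1.trans hk)
      exact ⟨_, hy.conj _, h3 ▸ C.mask_gen (h1.trans hk) h2 hm⟩

include C in
theorem zz_pow : zz ^ 3 = 1 := by
  have h := C.sep.lw_ext (w := [3, 4, 3, 4, 3, 4]) (w' := []) rfl rfl C.pow3
  rw [lw_nil, show ([3, 4, 3, 4, 3, 4] : List ℕ) = (List.replicate 3 [3, 4]).flatten from rfl,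
    (lw_flatten_replicate (w := [3, 4]) rfl 3).2] at h
  exact h

theorem zz_ne_one : zz ≠ 1 := fun h => by
  have e := lw_val (w := [3, 4]) rfl (⟨Suz1782.orb1.get 0, (reach_spec orb1_reach (by decide)).1⟩ : V0)
  rw [show lw [3, 4] = zz from rfl, h, one_smul] at e
  have hd : rangeAll (fun i => Nat.beq (wk [3, 4] (Suz1782.orb1.get i)) (Suz1782.orb1.get i)) 1 0
      = false := by decide +kernel
  rw [Bool.eq_false_iff] at hd
  refine hd ?_
  show force 0 (fun j => andB (Nat.beq (wk [3, 4] (Suz1782.orb1.get j)) (Suz1782.orb1.get j)) true)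
    = true
  rw [force_eq, andB_eq, beq_iff.mpr e.symm]
  rfl

include C in
theorem inC_pow {y : SL} (hy : InC y) : y ^ 3 = 1 ∧ y ≠ 1 := by
  obtain ⟨g, rfl⟩ := hy
  refine ⟨by rw [conj_pow, C.zz_pow, mul_one, mul_inv_cancel], fun h => zz_ne_one ?_⟩
  rwa [mul_inv_eq_one, mul_eq_left] at h

include C in
theorem inv_ne {y : SL} (hy : InC y) : y⁻¹ ≠ y := fun h => by
  obtain ⟨h3, h1⟩ := C.inC_pow hy
  refine h1 ?_
  have h2 : y * y = 1 := by rw [← inv_eq_iff_mul_eq_one, h]
  rwa [pow_succ, pow_two, h2, one_mul] at h3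

include C in
theorem inC_inv {y : SL} (hy : InC y) : InC y⁻¹ := by
  obtain ⟨g, rfl⟩ := hy
  obtain ⟨w, hw, h⟩ := C.inv
  have hw' := ltOK_append (ltOK_reverse hw) (show ltOK 6 [3, 4] = true from rfl)
  have e := C.sep.lw_ext (ltOK_append hw' hw) (show ltOK 6 [4, 3] = true from rfl) h
  rw [lw_append hw' hw, lw_append (ltOK_reverse hw) rfl, lw_reverse hw,
    show ([4, 3] : List ℕ) = ([3, 4] : List ℕ).reverse from rfl, lw_reverse rfl,
    ← mul_assoc] at e
  change lw w * zz * (lw w)⁻¹ = zz⁻¹ at e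
  exact ⟨g * lw w, by rw [conj_inv, ← e]; group⟩

include C in
theorem eq_or_inv_zz {y : SL} (hy : InC y) (hm : HasMask y (D.msk 0)) : y = zz ∨ y = zz⁻¹ := by
  have mem : ∀ l : SL, (∀ i : Fin 416, (D.msk 0).testBit i = true → l • qq i = qq i) →
      (l : Equiv.Perm V0) ∈ fixRows rowsF := by
    refine fun l hl => ⟨SL_le_aut0 l.2, fun q hq b hb => ?_⟩
    have hc := allL_spec C.rowsF q hq
    simp only [Bool.or_eq_true, Bool.and_eq_true, beq_iff, bitB_eq] at hc
    rcases hc with h0 | ⟨h1, h2⟩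
    · rw [show b = 0 from Fin.ext (hb.trans h0)]; exact fix0 _ l.2
    · rw [← hb] at h1 h2
      obtain ⟨h1, h3⟩ := mem_pset.mp (show b ∈ pset Suz1782.orb1 from h1)
      rw [orb1_m] at h1
      have := hl ⟨_, h1⟩ h2
      rwa [show qq ⟨_, h1⟩ = b from Fin.ext h3] at this
  have hz : ∀ i : Fin 416, (D.msk 0).testBit i = true → zz • qq i = qq i :=
    fun i hi => (C.zz_mask.2 i).mp hi
  have hy' : ∀ i : Fin 416, (D.msk 0).testBit i = true → y • qq i = qq i :=
    fun i hi => (hm.2 i).mp hi
  have hzi : ∀ i : Fin 416, (D.msk 0).testBit i = true → zz⁻¹ • qq i = qq i :=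
    fun i hi => (C.zz_mask.inv.2 i).mp hi
  haveI : Finite (fixRows rowsF) := inferInstance
  by_contra hcon
  push Not at hcon
  have hzC : InC zz := ⟨1, by simp⟩
  have := C.inv_ne hzC
  have hzne : (zz : SL)⁻¹ ≠ 1 := inv_ne_one.mpr zz_ne_one
  let S : Finset SL := {1, zz, zz⁻¹, y}
  have hS : S.card = 4 := by
    have h1 := (C.inC_pow hy).2
    simp [S, Ne.symm zz_ne_one, Ne.symm hzne, Ne.symm this, Ne.symm hcon.1, Ne.symm hcon.2,
      Ne.symm h1]
  let f : S → fixRows rowsF := fun l => ⟨l.1.1, mem l.1 (by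
    have := l.2
    simp only [S, Finset.mem_insert, Finset.mem_singleton] at this
    rcases this with h | h | h | h <;> rw [h]
    · exact fun i _ => one_smul _ _
    · exact hz
    · exact hzi
    · exact hy')⟩
  have hf : Function.Injective f := fun a b e =>
    Subtype.ext (Subtype.ext (congrArg (fun x : fixRows rowsF => x.1) e))
  have := Nat.card_le_card_of_injective f hf
  rw [Nat.card_eq_finsetCard, hS] at this
  have := C.bound
  omega

include C in
theorem eq_or_inv {y y' : SL} {M : ℕ} (hy : InC y) (hy' : InC y') (hm : HasMask y M)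
    (hm' : HasMask y' M) : y' = y ∨ y' = y⁻¹ := by
  obtain ⟨g, rfl⟩ := hy
  have h : HasMask (g⁻¹ * y' * g⁻¹⁻¹) (D.msk 0) := by
    refine hm'.conj (C.msk_lt (by norm_num)) fun i j hij => ?_
    rw [C.zz_mask.2 j, hm.2 i, ← conj_fix (g := g) (l := zz), ← hij, smul_inv_smul]
  have hc : InC (g⁻¹ * y' * g⁻¹⁻¹) := hy'.conj _
  rcases C.eq_or_inv_zz hc h with e | e <;> rw [inv_inv] at e
  · left; rw [← e]; group
  · right; rw [conj_inv, ← e]; group

include C in
/-- the centraliser of a class element is small -/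
theorem card_class : 4160 ≤ {y | InC y}.ncard := by
  choose y hy hm using fun k : Fin 2080 => C.exists_elt k.2
  let f : Fin 2080 × Bool → SL := fun q => cond q.2 (y q.1) (y q.1)⁻¹
  have hsub : Set.range f ⊆ {y | InC y} := by
    rintro _ ⟨⟨k, b⟩, rfl⟩
    cases b
    · exact C.inC_inv (hy k)
    · exact hy k
  have hinj : Function.Injective f := by
    rintro ⟨k, b⟩ ⟨k', b'⟩ e
    have hmk : ∀ k b, HasMask (f (k, b)) (D.msk (k : Fin 2080)) := fun k b => by
      cases b
      · exact (hm k).inv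
      · exact hm k
    have hk : k = k' := Fin.ext (C.msk_injective k.2 k'.2 ((e ▸ hmk k b).unique (hmk k' b')))
    subst hk
    cases b <;> cases b' <;>
      first
        | rfl
        | exact absurd e (C.inv_ne (hy k))
        | exact absurd e.symm (C.inv_ne (hy k))
  calc 4160 = (Set.range f).ncard := by
        rw [Set.ncard_range_of_injective hinj]; simp
    _ ≤ _ := Set.ncard_le_ncard hsub (Set.toFinite _)

include C in
theorem card_centralizer {y : SL} (hy : InC y) :
    Nat.card (Subgroup.centralizer ({y} : Set SL)) ≤ 60480 := by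
  have h := card_orbit_mul (K := ConjAct SL) (X := SL) y
  have e : orbit (ConjAct SL) y = {x | InC x} := by
    ext x
    obtain ⟨g, rfl⟩ := hy
    constructor
    · rintro ⟨c, rfl⟩
      refine ⟨ConjAct.ofConjAct c * g, ?_⟩
      show _ = c • (g * zz * g⁻¹)
      rw [ConjAct.smul_def]
      group
    · rintro ⟨k, rfl⟩
      refine ⟨ConjAct.toConjAct (k * g⁻¹), ?_⟩
      show ConjAct.toConjAct (k * g⁻¹) • (g * zz * g⁻¹) = _
      rw [ConjAct.smul_def, ConjAct.ofConjAct_toConjAct]
      group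
  have hcard : Nat.card (ConjAct SL) = 251596800 := SL_card
  have e2 : Nat.card (stabilizer (ConjAct SL) y) = Nat.card (Subgroup.centralizer ({y} : Set SL)) :=
    Nat.card_congr
      { toFun := fun c => ⟨ConjAct.ofConjAct c.1, by
          rw [Subgroup.mem_centralizer_singleton_iff]
          have := c.2
          rw [mem_stabilizer_iff, ConjAct.smul_def, mul_inv_eq_iff_eq_mul] at this
          exact this⟩
        invFun := fun c => ⟨ConjAct.toConjAct c.1, by
          rw [mem_stabilizer_iff, ConjAct.smul_def, ConjAct.ofConjAct_toConjAct,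
            mul_inv_eq_iff_eq_mul]
          exact Subgroup.mem_centralizer_singleton_iff.mp c.2⟩
        left_inv := fun _ => rfl
        right_inv := fun _ => rfl }
  rw [e, hcard, e2] at h
  have := C.card_class
  nlinarith

end ClassOK

end Cfsg.Agent.Lib.SuzRank3
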