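import Mathlib

/-!
A transitive group on 1782 points with suborbits 1, 416 and 1365 whose point stabiliser is a given
permutation group determines its orbital graph, as soon as the given group has the listed
subgroup and suborbit properties.
-/

set_option autoImplicit false

namespace Cfsg.Agent.Lib.SuzRank3

open MulAction Finset
open scoped Pointwise

/-- The coordinates. -/
abbrev V0 : Type := Fin 1782

/-- The properties of the abstract stabiliser needed below. -/
structure Facts (L : Subgroup (Equiv.Perm V0)) where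
  /-- points of the suborbits and of their stabiliser orbits -/
  q1 : V0
  q2 : V0
  q100 : V0
  q96 : V0
  q320 : V0
  fix0 : ∀ l ∈ L, l 0 = 0
  card : Nat.card L = 251596800
  card1 : (orbit L q1).ncard = 416
  card2 : (orbit L q2).ncard = 1365
  sub416 : ∀ H : Subgroup L, Nat.card H = 604800 → ∃ l : L, H = stabilizer L (l • q1)
  sub1365 : ∀ H : Subgroup L, Nat.card H = 184320 →
    (∃ l : L, H = stabilizer L (l • q2)) ∨
      ∀ T : Set V0, T ⊆ orbit L q1 → (∀ h ∈ H, ∀ x ∈ T, h • x ∈ T) → T.ncard ≠ 96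
  sub100 : ∀ T : Set V0, T ⊆ orbit L q1 \ {q1} →
    (∀ h ∈ stabilizer L q1, ∀ x ∈ T, h • x ∈ T) →
      T.ncard = 0 ∨ T.ncard = 315 ∨ T.ncard = 415 ∨
        T.ncard = 100 ∧ T = orbit (stabilizer L q1) q100
  sub96 : ∀ T : Set V0, T ⊆ orbit L q1 → (∀ h ∈ stabilizer L q2, ∀ x ∈ T, h • x ∈ T) →
      T.ncard = 96 → T = orbit (stabilizer L q2) q96
  sub320 : ∀ T : Set V0, T ⊆ orbit L q2 \ {q2} →
    (∀ h ∈ stabilizer L q2, ∀ x ∈ T, h • x ∈ T) → T.ncard = 320 →
      T = orbit (stabilizer L q2) q320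

variable {G V : Type*} [Group G] [MulAction G V]

/-- The orbital relation of the pair `(a, b)`. -/
def rel (G : Type*) {V : Type*} [Group G] [MulAction G V] (a b x y : V) : Prop :=
  ∃ g : G, g • a = x ∧ g • b = y

theorem rel_smul {a b x y : V} (g : G) : rel G a b (g • x) (g • y) ↔ rel G a b x y :=
  ⟨fun ⟨h, h1, h2⟩ => ⟨g⁻¹ * h, by rw [mul_smul, h1, inv_smul_smul],
      by rw [mul_smul, h2, inv_smul_smul]⟩,
    fun ⟨h, h1, h2⟩ => ⟨g * h, by rw [mul_smul, h1], by rw [mul_smul, h2]⟩⟩

theorem rel_base {a b y : V} : rel G a b a y ↔ y ∈ orbit (stabilizer G a) b :=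
  ⟨fun ⟨g, h1, h2⟩ => ⟨⟨g, h1⟩, h2⟩, fun ⟨g, hg⟩ => ⟨g.1, g.2, hg⟩⟩

/-- What is known about the action. -/
structure Setup (L : Subgroup (Equiv.Perm V0)) (G V : Type*) [Group G] [MulAction G V] where
  /-- The base point. -/
  a : V
  /-- A point of the small suborbit. -/
  b : V
  /-- A point of the large suborbit. -/
  c : V
  /-- The identification of the stabiliser. -/
  ψ : L ≃* stabilizer G a
  finite : Finite V
  trans : IsPretransitive G V
  card : Nat.card V = 1782
  hb : (orbit (stabilizer G a) b).ncard = 416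
  hc : (orbit (stabilizer G a) c).ncard = 1365

namespace Setup

variable {L : Subgroup (Equiv.Perm V0)} (S : Setup L G V)

/-- Adjacency. -/
def Adj (x y : V) : Prop := rel G S.a S.b x y

theorem orbit_self : orbit (stabilizer G S.a) S.a = {S.a} := by
  ext z
  exact ⟨fun ⟨g, hg⟩ => hg ▸ g.2, fun hz => (Set.mem_singleton_iff.1 hz).symm ▸ mem_orbit_self _⟩

theorem not_mem_orbit {d : V} (hd : (orbit (stabilizer G S.a) d).ncard ≠ 1) :
    S.a ∉ orbit (stabilizer G S.a) d := fun h =>
  hd (by rw [← orbit_eq_iff.2 h, S.orbit_self, Set.ncard_singleton])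

theorem disjoint_orbits :
    Disjoint (orbit (stabilizer G S.a) S.b) (orbit (stabilizer G S.a) S.c) := by
  rw [Set.disjoint_left]
  intro z h1 h2
  have hb := S.hb
  have hc := S.hc
  rw [← orbit_eq_iff.2 h1] at hb
  rw [← orbit_eq_iff.2 h2] at hc
  omega

theorem cover (y : V) :
    y = S.a ∨ y ∈ orbit (stabilizer G S.a) S.b ∨ y ∈ orbit (stabilizer G S.a) S.c := by
  haveI := S.finite
  have hu : insert S.a (orbit (stabilizer G S.a) S.b ∪ orbit (stabilizer G S.a) S.c) = Set.univ := by
    refine Set.eq_of_subset_of_ncard_le (Set.subset_univ _) ?_ Set.finite_univ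
    rw [Set.ncard_insert_of_notMem (fun h => h.elim
        (S.not_mem_orbit (by rw [S.hb]; norm_num)) (S.not_mem_orbit (by rw [S.hc]; norm_num))),
      Set.ncard_union_eq S.disjoint_orbits, Set.ncard_univ, S.card, S.hb, S.hc]
  have := hu.symm ▸ Set.mem_univ y
  simpa using this

theorem adj_smul (g : G) {x y : V} : S.Adj (g • x) (g • y) ↔ S.Adj x y := rel_smul g

theorem adj_base {y : V} : S.Adj S.a y ↔ y ∈ orbit (stabilizer G S.a) S.b := rel_base

theorem adj_ne {x y : V} (h : S.Adj x y) : x ≠ y := by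
  rintro rfl
  obtain ⟨g, h1, h2⟩ := h
  have e : S.a = S.b := MulAction.injective g (h1.trans h2.symm)
  exact S.not_mem_orbit (d := S.b) (by rw [S.hb]; norm_num)
    (e ▸ mem_orbit_self (M := stabilizer G S.a) S.b)

theorem out_image (g : G) :
    {y | S.Adj (g • S.a) y} = (g • ·) '' orbit (stabilizer G S.a) S.b := by
  ext y
  constructor
  · intro hy
    refine ⟨g⁻¹ • y, ?_, smul_inv_smul g y⟩
    rw [← adj_base, ← S.adj_smul g, smul_inv_smul]
    exact hy
  · rintro ⟨z, hz, rfl⟩
    exact (S.adj_smul g).2 (S.adj_base.2 hz)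

theorem adj_out (x : V) : {y | S.Adj x y}.ncard = 416 := by
  haveI := S.trans
  obtain ⟨g, rfl⟩ := exists_smul_eq G S.a x
  rw [S.out_image g, Set.ncard_image_of_injective _ (MulAction.injective g), S.hb]

theorem adj_symm {x y : V} (h : S.Adj x y) : S.Adj y x := by
  classical
  haveI := S.trans
  haveI := S.finite
  haveI := Fintype.ofFinite V
  have key : S.Adj S.b S.a := by
    have inN : ∀ z, {w | S.Adj w z}.ncard = {w | S.Adj w S.a}.ncard := by
      intro z
      obtain ⟨g, rfl⟩ := exists_smul_eq G S.a z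
      have h : {w | S.Adj w (g • S.a)} = (g • ·) '' {w | S.Adj w S.a} := by
        ext w
        constructor
        · intro hw
          refine ⟨g⁻¹ • w, ?_, smul_inv_smul g w⟩
          show S.Adj _ _
          rw [← S.adj_smul g, smul_inv_smul]
          exact hw
        · rintro ⟨v, hv, rfl⟩
          exact (S.adj_smul g).2 hv
      rw [h, Set.ncard_image_of_injective _ (MulAction.injective g)]
    have hnc : ∀ p : V → Prop, {w | p w}.ncard = (univ.filter p).card := fun p => by
      rw [← Set.ncard_coe_finset]; congr 1; ext; simp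
    have hsum : {w | S.Adj w S.a}.ncard = 416 := by
      have h1 := sum_card_bipartiteAbove_eq_sum_card_bipartiteBelow (s := (univ : Finset V))
        (t := (univ : Finset V)) S.Adj
      simp only [bipartiteAbove, bipartiteBelow, ← hnc, S.adj_out, inN, sum_const,
        card_univ, ← Nat.card_eq_fintype_card, S.card, smul_eq_mul] at h1
      omega
    by_contra hba
    have h2 : ∀ z ∈ orbit (stabilizer G S.a) S.b, ¬ S.Adj z S.a := by
      rintro z ⟨g, rfl⟩ hz
      have : S.Adj (g.1 • S.b) (g.1 • S.a) := by rw [show g.1 • S.a = S.a from g.2]; exact hz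
      exact hba ((S.adj_smul g.1).1 this)
    obtain ⟨w, hw⟩ := Set.nonempty_of_ncard_ne_zero (s := {w | S.Adj w S.a}) (by omega)
    have hw' : S.Adj w S.a := hw
    have hwc : w ∈ orbit (stabilizer G S.a) S.c :=
      ((S.cover w).resolve_left (S.adj_ne hw')).resolve_left (fun e => h2 w e hw')
    have hsub : orbit (stabilizer G S.a) S.c ⊆ {v | S.Adj v S.a} := by
      rw [← orbit_eq_iff.2 hwc]
      rintro v ⟨g, rfl⟩
      have := (S.adj_smul g.1).2 hw'
      rwa [show g.1 • S.a = S.a from g.2] at this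
    have := Set.ncard_le_ncard hsub (Set.toFinite _)
    rw [S.hc] at this
    omega
  obtain ⟨g, rfl, rfl⟩ := h
  exact (S.adj_smul g).2 key

theorem adj_comm {x y : V} : S.Adj x y ↔ S.Adj y x := ⟨S.adj_symm, S.adj_symm⟩

/-- A set containing `a` and closed under adjacency has size dividing 1782. -/
theorem closed_card {B : Set V} (ha : S.a ∈ B) (hB : ∀ x ∈ B, ∀ y, S.Adj x y → y ∈ B)
    (hall : ∀ x ∈ B, ∀ y ∈ B, x ≠ y → S.Adj x y) : B.ncard ∣ 1782 := by
  haveI := S.trans
  haveI := S.finite
  have hblock : IsBlock G B := by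
    rw [isBlock_iff_smul_eq_or_disjoint]
    intro g
    by_cases hd : Disjoint (g • B) B
    · exact Or.inr hd
    refine Or.inl ?_
    obtain ⟨z, hz1, hz2⟩ := Set.not_disjoint_iff.1 hd
    have hg : g⁻¹ • z ∈ B := Set.mem_smul_set_iff_inv_smul_mem.1 hz1
    ext w
    rw [Set.mem_smul_set_iff_inv_smul_mem]
    by_cases hwz : w = z
    · subst hwz; exact iff_of_true hg hz2
    constructor
    · intro hw
      refine hB z hz2 w ?_
      have := (S.adj_smul g).2 (hall _ hg _ hw (fun e => hwz (MulAction.injective g⁻¹ e).symm))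
      rwa [smul_inv_smul, smul_inv_smul] at this
    · intro hw
      exact hB _ hg _ ((S.adj_smul g⁻¹).2 (hall _ hz2 _ hw (Ne.symm hwz)))
  have := hblock.ncard_dvd_card ⟨_, ha⟩
  rwa [S.card] at this

end Setup

/-- An equivariant map of an orbit onto an orbit with the same point stabiliser. -/
theorem exists_orbitMap {K : Type*} [Group K] {X Y : Type*} [MulAction K X] [Group G]
    [MulAction G Y] (ψ : K →* G) (x : X) (y : Y)
    (h : ∀ k : K, k • x = x ↔ ψ k • y = y) :
    ∃ f : X → Y, ∀ k : K, f (k • x) = ψ k • y := by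
  classical
  refine ⟨fun z => if hz : ∃ k : K, k • x = z then ψ hz.choose • y else y, fun k => ?_⟩
  have hz : ∃ j : K, j • x = k • x := ⟨k, rfl⟩
  have e := hz.choose_spec
  simp only [dif_pos hz]
  have h1 : (k⁻¹ * hz.choose) • x = x := by rw [mul_smul, e, inv_smul_smul]
  rw [h, map_mul, map_inv, mul_smul, inv_smul_eq_iff] at h1
  exact h1

/-- A coordinate system on the points. -/
structure Coord {L : Subgroup (Equiv.Perm V0)} (F : Facts L) (S : Setup L G V) where
  /-- The points. -/
  f : V0 → V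
  bij : Function.Bijective f
  equiv : ∀ (l : L) (x : V0), f (l • x) = (S.ψ l : G) • f x
  base : f 0 = S.a
  adj0 : ∀ y, S.Adj S.a (f y) ↔ y ∈ orbit L F.q1
  adj11 : ∀ y ∈ orbit L F.q1, S.Adj (f F.q1) (f y) ↔ y ∈ orbit (stabilizer L F.q1) F.q100
  adj21 : ∀ y ∈ orbit L F.q1, S.Adj (f F.q2) (f y) ↔ y ∈ orbit (stabilizer L F.q2) F.q96
  adj22 : ∀ y ∈ orbit L F.q2, S.Adj (f F.q2) (f y) ↔ y ∈ orbit (stabilizer L F.q2) F.q320

end Cfsg.Agent.Lib.SuzRank3
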