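import Cfsg.Agent.Lib.SuzRank3.Aut

/-!
The small suborbit in index coordinates, fixed point masks, and equality of elements by a base.
-/

set_option autoImplicit false
set_option linter.style.haveILetI false

namespace Cfsg.Agent.Lib.SuzRank3

open MulAction
open Cfsg.Agent.Lib.CosetTable

theorem orb1_reach : Below (Suz1782.orb1.reachOK Suz1782.tab Suz1782.cert.subs) Suz1782.orb1.m :=
  pos_to_reach Suz1782.orb1_ok

theorem orb1_m : Suz1782.orb1.m = 416 := rfl

/-- point number `i` of the small suborbit -/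
noncomputable def qq (i : Fin 416) : V0 :=
  ⟨Suz1782.orb1.get i, (reach_spec orb1_reach i.2).1⟩

theorem qq_injective : Function.Injective qq := fun i j e => by
  have e' : Suz1782.orb1.get i = Suz1782.orb1.get j := congrArg Fin.val e
  exact Fin.ext (by
    rw [← (reach_spec orb1_reach i.2).2.1, ← (reach_spec orb1_reach j.2).2.1, e'])

theorem pset_orb1 : pset Suz1782.orb1 = Set.range qq := pset_eq_range orb1_reach

theorem orbit_qq (i : Fin 416) : orbit SL (qq i) = Set.range qq := by
  rw [← pset_orb1, orbit_eq_pset Suz1782.orb1_ok]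
  rw [pset_orb1]
  exact ⟨i, rfl⟩

theorem exists_qq (l : SL) (i : Fin 416) : ∃ j, l • qq i = qq j := by
  have : l • qq i ∈ Set.range qq := orbit_qq i ▸ mem_orbit _ _
  obtain ⟨j, hj⟩ := this
  exact ⟨j, hj.symm⟩

/-- the fixed points of `l` in the suborbit -/
def HasMask (l : SL) (M : ℕ) : Prop :=
  M < 2 ^ 416 ∧ ∀ i : Fin 416, (M.testBit i = true ↔ l • qq i = qq i)

theorem HasMask.unique {l : SL} {M N : ℕ} (h : HasMask l M) (h' : HasMask l N) : M = N := by
  refine Nat.eq_of_testBit_eq fun i => ?_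
  by_cases hi : i < 416
  · rw [Bool.eq_iff_iff, h.2 ⟨i, hi⟩, h'.2 ⟨i, hi⟩]
  · rw [Nat.testBit_lt_two_pow (lt_of_lt_of_le h.1 (Nat.pow_le_pow_right (by norm_num) (by omega))),
      Nat.testBit_lt_two_pow (lt_of_lt_of_le h'.1 (Nat.pow_le_pow_right (by norm_num) (by omega)))]

theorem conj_fix {l g : SL} {x : V0} : (g * l * g⁻¹) • (g • x) = g • x ↔ l • x = x := by
  rw [smul_smul, inv_mul_cancel_right, mul_smul, smul_left_cancel_iff]

theorem HasMask.inv {l : SL} {M : ℕ} (h : HasMask l M) : HasMask l⁻¹ M :=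
  ⟨h.1, fun i => (h.2 i).trans (by rw [inv_smul_eq_iff, eq_comm])⟩

/-- conjugation carries masks along -/
theorem HasMask.conj {l g : SL} {M N : ℕ} (h : HasMask l M) (hN : N < 2 ^ 416)
    (hMN : ∀ i j : Fin 416, g • qq i = qq j → (N.testBit j = true ↔ M.testBit i = true)) :
    HasMask (g * l * g⁻¹) N := by
  refine ⟨hN, fun j => ?_⟩
  obtain ⟨i, hi⟩ := exists_qq g⁻¹ j
  have hij : g • qq i = qq j := by rw [← hi, smul_inv_smul]
  rw [hMN i j hij, h.2 i, ← hij, conj_fix]

/-- mask of the images of the 56 packed indices -/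
noncomputable def imgMask (f : ℕ → ℕ) (c : ℕ) : ℕ :=
  Nat.rec (motive := fun _ => ℕ) 0
    (fun j ih => Nat.lor (Nat.shiftLeft 1 (force (at16 c j) f)) ih) 56

theorem testBit_imgMask (f : ℕ → ℕ) (c i : ℕ) :
    (imgMask f c).testBit i = true ↔ ∃ j < 56, f (at16 c j) = i := by
  have key : ∀ m, (Nat.rec (motive := fun _ => ℕ) 0
      (fun j ih => Nat.lor (Nat.shiftLeft 1 (force (at16 c j) f)) ih) m).testBit i = true ↔
        ∃ j < m, f (at16 c j) = i := by
    intro m
    induction m with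
    | zero => simp
    | succ m ih =>
      show ((1 <<< force (at16 c m) f) ||| Nat.rec (motive := fun _ => ℕ) 0
        (fun j ih => Nat.lor (Nat.shiftLeft 1 (force (at16 c j) f)) ih) m).testBit i = true ↔ _
      rw [Nat.testBit_lor, Bool.or_eq_true, ih, force_eq, Nat.one_shiftLeft, Nat.testBit_two_pow,
        decide_eq_true_iff]
      constructor
      · rintro (h | ⟨j, hj, h⟩)
        · exact ⟨m, by omega, h⟩
        · exact ⟨j, by omega, h⟩
      · rintro ⟨j, hj, h⟩
        rcases Nat.lt_succ_iff_lt_or_eq.mp hj with hj | rfl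
        · exact Or.inr ⟨j, hj, h⟩
        · exact Or.inl h
  exact key 56

/-- the generators act on the indices through the table -/
noncomputable def linkOK (T : Table) (i : ℕ) : Bool :=
  rangeAll (fun g => force (T.act g i) fun j => andB (Nat.blt j 416)
    (Nat.beq (Suz1782.orb1.get j) (wk [g] (Suz1782.orb1.get i)))) 6 0

/-- a checked index table -/
def Linked (T : Table) : Prop := Below (linkOK T) 416

theorem Linked.walk {T : Table} (hT : Linked T) : ∀ {w : List ℕ}, ltOK 6 w = true →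
    ∀ i : Fin 416, ∃ h : T.walk w i < 416, lw w • qq i = qq ⟨T.walk w i, h⟩
  | [], hw, i => ⟨i.2, by
      refine Fin.ext ?_
      rw [lw_val hw]
      rfl⟩
  | a :: w, h, i => by
    have h' := h
    change andB (Nat.blt a 6) (ltOK 6 w) = true at h'
    rw [andB_eq, Bool.and_eq_true] at h'
    have ha := blt_iff.mp h'.1
    have hl := rangeAll_spec (hT i i.2) a (Nat.zero_le _) (by omega)
    simp only [force_eq, andB_eq, Bool.and_eq_true, beq_iff, blt_iff] at hl
    obtain ⟨h1, h2⟩ := hl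
    obtain ⟨hlt, e⟩ := Linked.walk hT h'.2 ⟨T.act a i, h1⟩
    have hval : T.walk (a :: w) i = T.walk w (T.act a i) := by
      show force (T.act a i) (T.walk w) = _
      rw [force_eq]
    have hs : ltOK 6 [a] = true := by
      show andB (Nat.blt a 6) true = true
      rw [andB_eq, h'.1]; rfl
    refine ⟨hval ▸ hlt, ?_⟩
    rw [show lw (a :: w) = lw w * lw [a] from lw_append hs h'.2, mul_smul,
      show lw [a] • qq i = qq ⟨T.act a i, h1⟩ from Fin.ext ((lw_val hs _).trans h2.symm), e]
    exact congrArg qq (Fin.ext hval.symm)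

/-- agreement on the given points -/
noncomputable def baseEq (bs : List ℕ) (w w' : List ℕ) : Bool :=
  allL (fun b => Nat.beq (wk w b) (wk w' b)) bs

/-- rows separating all points -/
structure Sep (rows : List (ℕ × ℕ)) : Prop where
  row : ∀ q ∈ rows, RowOK q
  sep : Below (sepOK rows) 1782

theorem Sep.ext {rows : List (ℕ × ℕ)} (S : Sep rows) {σ τ : Equiv.Perm V0} (hσ : σ ∈ aut0)
    (hτ : τ ∈ aut0) (h : ∀ q ∈ rows, ∀ b : V0, (b : ℕ) = q.1 → σ b = τ b) : σ = τ := by
  have hm : τ⁻¹ * σ ∈ fixRows rows := ⟨aut0.mul_mem (aut0.inv_mem hτ) hσ, fun q hq b hb => by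
    rw [Equiv.Perm.mul_apply, h q hq b hb]
    exact τ.symm_apply_apply b⟩
  exact (inv_mul_eq_one.mp (eq_one_of_sep S.row S.sep hm)).symm

theorem Sep.lw_ext {rows : List (ℕ × ℕ)} (S : Sep rows) {w w' : List ℕ} (hw : ltOK 6 w = true)
    (hw' : ltOK 6 w' = true) (h : baseEq (rows.map Prod.fst) w w' = true) : lw w = lw w' := by
  refine Subtype.ext (S.ext (SL_le_aut0 (lw w).2) (SL_le_aut0 (lw w').2) fun q hq b hb => ?_)
  refine Fin.ext ?_
  show ((lw w • b : V0) : ℕ) = ((lw w' • b : V0) : ℕ)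
  rw [lw_val hw, lw_val hw', hb]
  exact beq_iff.mp (allL_spec h _ (List.mem_map_of_mem hq))

theorem lw_nil : lw [] = 1 := Subtype.ext (by rw [lw_coe rfl]; rfl)

theorem lw_flatten_replicate {w : List ℕ} (hw : ltOK 6 w = true) : ∀ n : ℕ,
    ltOK 6 (List.replicate n w).flatten = true ∧ lw (List.replicate n w).flatten = lw w ^ n
  | 0 => ⟨rfl, by rw [pow_zero]; exact lw_nil⟩
  | n + 1 => by
    obtain ⟨h1, h2⟩ := lw_flatten_replicate hw n
    rw [List.replicate_succ, List.flatten_cons]
    exact ⟨ltOK_append hw h1, by rw [lw_append hw h1, h2, pow_succ]⟩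

end Cfsg.Agent.Lib.SuzRank3
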