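import Cfsg.Agent.S1679
import Cfsg.Agent.Lib.SuzRank3.Graph

/-!
The permutation group of degree 1782 given by the coset table, its point stabiliser, and the
translation between words and permutations.
-/

set_option autoImplicit false
set_option linter.style.haveILetI false

namespace Cfsg.Agent.Lib.SuzRank3

open MulAction
open Cfsg.Agent.Lib.CosetTable

/-- the checked table -/
theorem tableChecked : Checked Suz1782.cert Suz1782.tab 38050 := S1680.certified.checked

/-- the permutations of the generators -/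
noncomputable def pp (g : ℕ) : Equiv.Perm V0 := tableChecked.perm g

/-- follow a word -/
noncomputable abbrev wk (w : List ℕ) (i : ℕ) : ℕ := Suz1782.tab.walk w i

/-- all letters are below `k` -/
noncomputable def ltOK (k : ℕ) (w : List ℕ) : Bool := allL (fun a => Nat.blt a k) w

theorem ltOK_spec {k : ℕ} {w : List ℕ} (h : ltOK k w = true) : ∀ a ∈ w, a < k :=
  fun a ha => blt_iff.mp (allL_spec h a ha)

theorem cert_k : Suz1782.cert.k = 7 := rfl

theorem pp_eval {w : List ℕ} (h : ∀ a ∈ w, a < 7) (i : V0) :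
    ((eval pp w i : V0) : ℕ) = wk w i :=
  tableChecked.eval_perm (fun a ha => cert_k ▸ h a ha) i

theorem pp_invol {g : ℕ} (h : g < 7) : pp g * pp g = 1 :=
  tableChecked.perm_invol (cert_k ▸ h)

theorem wk_lt {w : List ℕ} (h : ∀ a ∈ w, a < 7) {i : ℕ} (hi : i < 1782) : wk w i < 1782 := by
  rw [← pp_eval h ⟨i, hi⟩]; exact (eval pp w _).2

theorem exists_act : ∃ φ : Cfsg.Spor.Suz →* Equiv.Perm V0,
    (∀ g, g < 7 → φ (S1694.gn g) = pp g) := by
  obtain ⟨φ, hφ⟩ := Pres.exists_action S1680.certified.good S1680.certified.extra_eq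
    S1680.certified.k_eq S1680.certified.rels_eq S1680.certified.words tableChecked
  exact ⟨φ, fun g hg => hφ g (cert_k ▸ hg)⟩

/-- the action of the presented group -/
noncomputable def act : Cfsg.Spor.Suz →* Equiv.Perm V0 := exists_act.choose

theorem act_gn {g : ℕ} (hg : g < 7) : act (S1694.gn g) = pp g := exists_act.choose_spec g hg

/-- the group -/
noncomputable def SG : Subgroup (Equiv.Perm V0) := act.range

/-- the point stabiliser -/
noncomputable def SL : Subgroup (Equiv.Perm V0) := SG ⊓ stabilizer (Equiv.Perm V0) (0 : V0)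

theorem act_eval {w : List ℕ} (h : ∀ a ∈ w, a < 7) : act (eval S1694.gn w) = eval pp w :=
  Checked.map_eval tableChecked S1694.model_act act (fun _ hg => act_gn (cert_k ▸ hg))
    (fun a ha => cert_k ▸ h a ha)

theorem act_injective : Function.Injective act := by
  haveI := S1694.result.1
  rw [← MonoidHom.ker_eq_bot_iff]
  rcases act.normal_ker.eq_bot_or_eq_top with h | h
  · exact h
  · exfalso
    have h0 : act (S1694.gn 6) = 1 := MonoidHom.mem_ker.mp (by rw [h]; trivial)
    rw [act_gn (by norm_num)] at h0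
    have e := pp_eval (w := [6]) (by simp) 0
    simp only [eval, one_mul, h0, Equiv.Perm.one_apply] at e
    exact absurd e (by decide +kernel)

theorem SG_simple : IsSimpleGroup SG :=
  haveI := S1694.result.1
  (MonoidHom.ofInjective act_injective).symm.isSimpleGroup

theorem SG_card : Nat.card SG = 448345497600 := by
  rw [show SG = act.range from rfl, ← Nat.card_congr (MonoidHom.ofInjective act_injective).toEquiv,
    S1694.result.2]

theorem eval_mem_SG {w : List ℕ} (h : ∀ a ∈ w, a < 7) : eval pp w ∈ SG :=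
  ⟨_, act_eval h⟩

theorem pp_mem_SG {g : ℕ} (h : g < 7) : pp g ∈ SG := ⟨_, act_gn h⟩

theorem SG_trans : IsPretransitive SG V0 := by
  have key : ∀ i : V0, ∃ g : SG, g • (0 : V0) = i := by
    intro i
    obtain ⟨x, hx⟩ := Checked.exists_map_zero tableChecked act
      (fun _ hg => act_gn (cert_k ▸ hg)) i
    exact ⟨⟨act x, ⟨x, rfl⟩⟩, hx⟩
  refine ⟨fun x y => ?_⟩
  obtain ⟨g, rfl⟩ := key x
  obtain ⟨h, rfl⟩ := key y
  exact ⟨h * g⁻¹, by rw [mul_smul, inv_smul_smul]⟩

theorem card_stab0 : Nat.card (stabilizer SG (0 : V0)) = 251596800 := by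
  haveI := SG_trans
  have h := Subgroup.index_mul_card (stabilizer SG (0 : V0))
  rw [index_stabilizer_of_transitive, SG_card, Nat.card_fin] at h
  omega

/-- the stabiliser, seen in both ways -/
noncomputable def stab0Equiv : SL ≃* stabilizer SG (0 : V0) where
  toFun l := ⟨⟨l.1, l.2.1⟩, l.2.2⟩
  invFun g := ⟨g.1.1, g.1.2, g.2⟩
  left_inv _ := rfl
  right_inv _ := rfl
  map_mul' _ _ := rfl

theorem SL_card : Nat.card SL = 251596800 := by
  rw [Nat.card_congr stab0Equiv.toEquiv, card_stab0]

theorem fix0 : ∀ l ∈ SL, l 0 = 0 := fun _ hl => hl.2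

theorem pp_mem_SL {g : ℕ} (h : g < 6) : pp g ∈ SL := by
  refine ⟨pp_mem_SG (by omega), Fin.ext ?_⟩
  have e := pp_eval (w := [g]) (by simp; omega) 0
  simp only [eval, one_mul] at e
  show ((pp g 0 : V0) : ℕ) = 0
  rw [e]
  have hb : rangeAll (fun g => Nat.beq (wk [g] 0) 0) 6 0 = true := by decide +kernel
  exact beq_iff.mp (rangeAll_spec hb g (Nat.zero_le _) (by omega))

theorem eval_mem_SL : ∀ {w : List ℕ}, (∀ a ∈ w, a < 6) → eval pp w ∈ SL
  | [], _ => SL.one_mem
  | a :: w, h =>
    SL.mul_mem (eval_mem_SL fun b hb => h b (List.mem_cons_of_mem _ hb)) (pp_mem_SL (h a (by simp)))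

theorem subH_eq : S1679.subH = wordSubgroup S1694.gn Suz1782.cert.subs :=
  Pres.subgrp_eq S1680.pres_good S1680.certified.k_eq S1680.certified.subs_eq Suz1782.words_ok

theorem map_subH : S1679.subH.map act = SL := by
  have hle : S1679.subH.map act ≤ SL := by
    rw [Subgroup.map_le_iff_le_comap, subH_eq]
    refine (Subgroup.closure_le _).mpr ?_
    rintro _ ⟨w, hw, rfl⟩
    have h6 : ∀ a ∈ w, a < 6 := by
      have hb : allL (ltOK 6) Suz1782.cert.subs = true := by decide +kernel
      exact ltOK_spec (allL_spec hb w hw)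
    show act (eval S1694.gn w) ∈ SL
    rw [act_eval fun a ha => by have := h6 a ha; omega]
    exact eval_mem_SL h6
  refine Subgroup.eq_of_le_of_card_ge hle ?_
  rw [SL_card, ← Nat.card_congr (Subgroup.equivMapOfInjective _ act act_injective).toEquiv,
    S1679.card_subH]

theorem SL_eq_closure : SL = Subgroup.closure {x | ∃ g, g < 6 ∧ pp g = x} := by
  refine le_antisymm ?_ ((Subgroup.closure_le _).mpr ?_)
  · rw [← map_subH, Subgroup.map_le_iff_le_comap, subH_eq]
    refine (Subgroup.closure_le _).mpr ?_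
    rintro _ ⟨w, hw, rfl⟩
    have h6 : ∀ a ∈ w, a < 6 := by
      have hb : allL (ltOK 6) Suz1782.cert.subs = true := by decide +kernel
      exact ltOK_spec (allL_spec hb w hw)
    show act (eval S1694.gn w) ∈ Subgroup.closure _
    rw [act_eval fun a ha => by have := h6 a ha; omega]
    clear hw
    induction w with
    | nil => exact Subgroup.one_mem _
    | cons a w ih =>
      exact Subgroup.mul_mem _ (ih fun b hb => h6 b (List.mem_cons_of_mem _ hb))
        (Subgroup.subset_closure ⟨a, h6 a (by simp), rfl⟩)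
  · rintro _ ⟨g, hg, rfl⟩
    exact pp_mem_SL hg

theorem exists_chev_equiv (K : Type) [Field K] [Fintype K] (hK : Fintype.card K = 4) :
    Nonempty (SL ≃* Cfsg.Lie.chevG2.group K) := by
  obtain ⟨π, hr, hinj⟩ := S1679.exists_to_subH
  obtain ⟨hc, w, hw⟩ := S1679.exists_root K hK
  obtain ⟨q, hq⟩ := S1679.exists_to_G2 w hw
  have hG : Nat.card (Cfsg.Lie.chevG2.group K) = 251596800 := by
    rw [S1059.result hK]; norm_num
  haveI := S1679.order_le.1
  haveI : Finite (Cfsg.Lie.chevG2.group K) :=
    Nat.finite_of_card_ne_zero (by rw [hG]; norm_num)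
  have hb : Function.Bijective q :=
    (Nat.bijective_iff_injective_and_card _).mpr ⟨hq, by rw [hG]; exact S1679.simple_PH.2⟩
  exact ⟨((MulEquiv.subgroupCongr map_subH).symm.trans
    (Subgroup.equivMapOfInjective _ act act_injective).symm).trans
    (((MonoidHom.ofInjective hinj).trans (MulEquiv.subgroupCongr hr)).symm.trans
      (MulEquiv.ofBijective q hb))⟩

end Cfsg.Agent.Lib.SuzRank3
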