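import Cfsg.Agent.Lib.SuzRank3.Model

/-!
Words as elements of the point stabiliser, and sets of points reached by given words.
-/

set_option autoImplicit false
set_option linter.style.haveILetI false

namespace Cfsg.Agent.Lib.SuzRank3

open MulAction
open Cfsg.Agent.Lib.CosetTable

/-- the element of the stabiliser given by a word -/
noncomputable def lw (w : List ℕ) : SL :=
  if h : ltOK 6 w = true then ⟨eval pp w, eval_mem_SL (ltOK_spec h)⟩ else 1

theorem ltOK_mono {w : List ℕ} (h : ltOK 6 w = true) : ∀ a ∈ w, a < 7 :=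
  fun a ha => (ltOK_spec h a ha).trans (by norm_num)

theorem lw_coe {w : List ℕ} (h : ltOK 6 w = true) : (lw w : Equiv.Perm V0) = eval pp w := by
  simp only [lw, dif_pos h]

theorem lw_val {w : List ℕ} (h : ltOK 6 w = true) (x : V0) :
    ((lw w • x : V0) : ℕ) = wk w x := by
  show (((lw w : Equiv.Perm V0) x : V0) : ℕ) = _
  rw [lw_coe h, pp_eval (ltOK_mono h)]

theorem ltOK_append {k : ℕ} : ∀ {a b : List ℕ}, ltOK k a = true → ltOK k b = true →
    ltOK k (a ++ b) = true
  | [], _, _, h => h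
  | x :: a, b, h, h' => by
    change andB (Nat.blt x k) (ltOK k a) = true at h
    rw [andB_eq, Bool.and_eq_true] at h
    show andB (Nat.blt x k) (ltOK k (a ++ b)) = true
    rw [andB_eq, h.1, ltOK_append h.2 h']
    rfl

theorem lw_append {a b : List ℕ} (ha : ltOK 6 a = true) (hb : ltOK 6 b = true) :
    lw (a ++ b) = lw b * lw a :=
  Subtype.ext (by rw [Subgroup.coe_mul, lw_coe ha, lw_coe hb, lw_coe (ltOK_append ha hb),
    eval_append])

theorem pp_inv {g : ℕ} (hg : g < 7) : (pp g)⁻¹ = pp g := inv_eq_of_mul_eq_one_right (pp_invol hg)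

theorem eval_singleton (g : ℕ) : eval pp [g] = pp g := by simp only [eval, one_mul]

theorem eval_reverse : ∀ {w : List ℕ}, (∀ a ∈ w, a < 7) → eval pp w.reverse = (eval pp w)⁻¹
  | [], _ => by simp [eval]
  | a :: w, h => by
    rw [List.reverse_cons, eval_append, eval_reverse fun b hb => h b (List.mem_cons_of_mem _ hb),
      eval_singleton]
    simp only [eval, mul_inv_rev, pp_inv (h a (by simp))]

theorem ltOK_reverse {k : ℕ} : ∀ {w : List ℕ}, ltOK k w = true → ltOK k w.reverse = true
  | [], h => h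
  | a :: w, h => by
    change andB (Nat.blt a k) (ltOK k w) = true at h
    rw [andB_eq, Bool.and_eq_true] at h
    rw [List.reverse_cons]
    exact ltOK_append (ltOK_reverse h.2) (by
      show andB (Nat.blt a k) true = true
      rw [andB_eq, h.1]; rfl)

theorem lw_reverse {w : List ℕ} (h : ltOK 6 w = true) : lw w.reverse = (lw w)⁻¹ :=
  Subtype.ext (by rw [lw_coe (ltOK_reverse h), Subgroup.coe_inv, lw_coe h,
    eval_reverse (ltOK_mono h)])

/-- `w` fixes `q` -/
theorem lw_mem_stab {w : List ℕ} (h : ltOK 6 w = true) {q : V0} (hq : wk w q = q) :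
    lw w ∈ stabilizer SL q := mem_stabilizer_iff.mpr (Fin.ext ((lw_val h q).trans hq))

/-- the points of an orbit certificate -/
def pset (O : Orb) : Set V0 := {x | O.mem x = true}

theorem mem_pset {O : Orb} {x : V0} : x ∈ pset O ↔ O.idx x < O.m ∧ O.get (O.idx x) = x := by
  simp only [pset, Set.mem_setOf_eq, Orb.mem, andB_eq, Bool.and_eq_true, beq_iff, blt_iff]

section Reach

variable {O : Orb} {ws : List (List ℕ)}

theorem reach_spec (h : Below (O.reachOK Suz1782.tab ws) O.m) {p : ℕ} (hp : p < O.m) :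
    O.get p < 1782 ∧ O.idx (O.get p) = p ∧
      (p = 0 ∨ (O.pP p < p ∧ O.pW p < ws.length ∧
        wk (ws.getD (O.pW p) []) (O.get (O.pP p)) = O.get p)) := by
  have h := h p hp
  simp only [Orb.reachOK, force_eq, andB_eq, iteB_eq, Bool.and_eq_true, Bool.cond_true_left,
    Bool.or_eq_true, beq_iff, blt_iff] at h
  exact ⟨h.1, h.2.1, h.2.2⟩

/-- point number `p` -/
noncomputable def rpt (h : Below (O.reachOK Suz1782.tab ws) O.m) (p : Fin O.m) : V0 :=
  ⟨O.get p, (reach_spec h p.2).1⟩

theorem pset_eq_range (h : Below (O.reachOK Suz1782.tab ws) O.m) :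
    pset O = Set.range (rpt h) := by
  ext x
  rw [mem_pset]
  constructor
  · rintro ⟨h1, h2⟩; exact ⟨⟨_, h1⟩, Fin.ext h2⟩
  · rintro ⟨p, rfl⟩
    have e : O.idx (rpt h p) = (p : ℕ) := (reach_spec h p.2).2.1
    rw [e]
    exact ⟨p.2, rfl⟩

theorem ncard_pset (h : Below (O.reachOK Suz1782.tab ws) O.m) : (pset O).ncard = O.m := by
  rw [pset_eq_range h, Set.ncard_range_of_injective, Nat.card_fin]
  intro p q e
  have e' : O.get p = O.get q := congrArg Fin.val e
  exact Fin.ext (by rw [← (reach_spec h p.2).2.1, ← (reach_spec h q.2).2.1, e'])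

variable {H : Subgroup SL}

/-- every word is an element of `H` -/
def InGroup (H : Subgroup SL) (ws : List (List ℕ)) : Prop :=
  ∀ w ∈ ws, ltOK 6 w = true ∧ lw w ∈ H

theorem rpt_mem_orbit (h : Below (O.reachOK Suz1782.tab ws) O.m) (hw : InGroup H ws) :
    ∀ (p : ℕ) (hp : p < O.m), rpt h ⟨p, hp⟩ ∈ orbit H (rpt h ⟨0, by omega⟩) := by
  intro p
  induction p using Nat.strongRecOn with
  | _ p IH =>
    intro hp
    rcases (reach_spec h hp).2.2 with h0 | ⟨h1, h2, h3⟩
    · subst h0; exact mem_orbit_self _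
    · have hm : ws.getD (O.pW p) [] ∈ ws := by
        rw [List.getD_eq_getElem _ _ h2]; exact List.getElem_mem h2
      obtain ⟨hl, hH⟩ := hw _ hm
      obtain ⟨k, hk⟩ := IH _ h1 (h1.trans hp)
      refine ⟨⟨_, hH⟩ * k, ?_⟩
      show (_ * k) • _ = _
      rw [mul_smul, show k • rpt h ⟨0, by omega⟩ = _ from hk]
      exact Fin.ext ((lw_val hl _).trans h3)

theorem pset_subset_orbit (h : Below (O.reachOK Suz1782.tab ws) O.m) (hw : InGroup H ws)
    {x : V0} (hx : x ∈ pset O) : pset O ⊆ orbit H x := by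
  intro y hy
  rw [pset_eq_range h] at hx hy
  obtain ⟨p, rfl⟩ := hx
  obtain ⟨q, rfl⟩ := hy
  rw [orbit_eq_iff.mpr (rpt_mem_orbit h hw p.1 p.2)]
  exact rpt_mem_orbit h hw q.1 q.2

/-- an invariant set contains all or none of the points -/
theorem pset_dichotomy (h : Below (O.reachOK Suz1782.tab ws) O.m) (hw : InGroup H ws)
    {T : Set V0} (hT : ∀ k ∈ H, ∀ x ∈ T, k • x ∈ T) :
    pset O ⊆ T ∨ Disjoint T (pset O) := by
  by_cases hd : Disjoint T (pset O)
  · exact Or.inr hd
  obtain ⟨x, hxT, hxO⟩ := Set.not_disjoint_iff.mp hd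
  refine Or.inl fun y hy => ?_
  obtain ⟨k, rfl⟩ := pset_subset_orbit h hw hxO hy
  exact hT _ k.2 x hxT

end Reach

theorem smul_mem_closed {T : Set V0} (hT : ∀ g < 6, ∀ x ∈ T, pp g x ∈ T) (l : SL) :
    ∀ x ∈ T, l • x ∈ T := by
  obtain ⟨l, hl⟩ := l
  show ∀ x ∈ T, l x ∈ T
  rw [SL_eq_closure] at hl
  induction hl using Subgroup.closure_induction with
  | mem y hy => obtain ⟨g, hg, rfl⟩ := hy; exact hT g hg
  | one => exact fun x hx => hx
  | mul y z _ _ hy hz => exact fun x hx => hy _ (hz x hx)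
  | inv y _ hy =>
    intro x hx
    have he : y '' T = T := Set.eq_of_subset_of_ncard_le (by rintro _ ⟨a, ha, rfl⟩; exact hy a ha)
      (by rw [Set.ncard_image_of_injective _ y.injective]) (Set.toFinite _)
    rw [← he] at hx
    obtain ⟨a, ha, rfl⟩ := hx
    simpa [Equiv.Perm.inv_def] using ha

theorem subs_six : Suz1782.cert.subs = (List.range 6).map fun a => [a] := by decide +kernel

theorem inGroup_top : InGroup ⊤ Suz1782.cert.subs := fun w hw => by
  have hb : allL (ltOK 6) Suz1782.cert.subs = true := by decide +kernel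
  exact ⟨allL_spec hb w hw, trivial⟩

theorem pos_to_reach {O : Orb} (h : Below (O.posOK Suz1782.tab Suz1782.cert.subs) O.m) :
    Below (O.reachOK Suz1782.tab Suz1782.cert.subs) O.m := by
  intro p hp
  have h := h p hp
  simp only [Orb.posOK, Orb.reachOK, force_eq, andB_eq, Bool.and_eq_true] at h ⊢
  exact ⟨h.1, h.2.1, h.2.2.2⟩

/-- a closed certificate gives an orbit of the stabiliser -/
theorem orbit_eq_pset {O : Orb} (h : Below (O.posOK Suz1782.tab Suz1782.cert.subs) O.m)
    {x : V0} (hx : x ∈ pset O) : orbit SL x = pset O := by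
  have hr := pos_to_reach h
  refine Set.Subset.antisymm ?_ fun y hy => ?_
  · rintro _ ⟨l, rfl⟩
    refine smul_mem_closed (fun g hg z hz => ?_) l x hx
    obtain ⟨h1, h2⟩ := mem_pset.mp hz
    have hp := h _ h1
    simp only [Orb.posOK, force_eq, andB_eq, Bool.and_eq_true] at hp
    have := allL_spec hp.2.2.1 [g] (by rw [subs_six]; simp [hg])
    rw [h2] at this
    show O.mem (pp g z : V0) = true
    have e := pp_eval (w := [g]) (by simp; omega) z
    rw [eval_singleton] at e
    rw [e]
    exact this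
  · obtain ⟨k, rfl⟩ := pset_subset_orbit hr inGroup_top hx hy
    exact mem_orbit _ _

end Cfsg.Agent.Lib.SuzRank3
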