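import Cfsg.Agent.Lib.SuzRank3.Certs

/-!
A group with the same suborbits and stabiliser as the certified one is conjugate to it.
-/

set_option autoImplicit false
set_option linter.style.haveILetI false
set_option maxRecDepth 4000

namespace Cfsg.Agent.Lib.SuzRank3

open MulAction
open Cfsg.Agent.Lib.CosetTable

/-- the certified action -/
noncomputable def modelSetup : Setup SL SG V0 where
  a := 0
  b := 47
  c := 1
  ψ := stab0Equiv
  finite := inferInstance
  trans := SG_trans
  card := Nat.card_fin 1782
  hb := by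
    have : orbit (stabilizer SG (0 : V0)) (47 : V0) = orbit SL (47 : V0) := by
      ext x
      constructor
      · rintro ⟨g, rfl⟩; exact ⟨stab0Equiv.symm g, rfl⟩
      · rintro ⟨l, rfl⟩; exact ⟨stab0Equiv l, rfl⟩
    rw [this]
    exact facts.card1
  hc := by
    have : orbit (stabilizer SG (0 : V0)) (1 : V0) = orbit SL (1 : V0) := by
      ext x
      constructor
      · rintro ⟨g, rfl⟩; exact ⟨stab0Equiv.symm g, rfl⟩
      · rintro ⟨l, rfl⟩; exact ⟨stab0Equiv l, rfl⟩
    rw [this]
    exact facts.card2

theorem card_autS_le : Nat.card autS ≤ 2 * Nat.card SG := by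
  have h := card_orbit_mul (K := autS) (0 : V0)
  have e : Nat.card (stabilizer autS (0 : V0)) = Nat.card aut0 := Nat.card_congr
    { toFun := fun x => ⟨x.1.1, x.1.2, x.2⟩
      invFun := fun x => ⟨⟨x.1, x.2.1⟩, x.2.2⟩
      left_inv := fun _ => rfl
      right_inv := fun _ => rfl }
  rw [e] at h
  have h1 : (orbit autS (0 : V0)).ncard ≤ 1782 := by
    have := Set.ncard_le_ncard (Set.subset_univ (orbit autS (0 : V0))) (Set.toFinite _)
    rwa [Set.ncard_univ, Nat.card_fin] at this
  rw [SG_card, ← h]
  calc _ ≤ 1782 * 503193600 := Nat.mul_le_mul h1 card_aut0_le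
    _ = 2 * 448345497600 := by norm_num

universe u v

variable {G : Type u} {V : Type v} [Group G] [MulAction G V] [FaithfulSMul G V]

theorem equiv_suz (S : Setup SL G V) : Nonempty (G ≃* Cfsg.Spor.Suz) := by
  obtain ⟨C⟩ := Setup.coord_exists facts S
  obtain ⟨C'⟩ := Setup.coord_exists facts modelSetup
  haveI := S.finite
  haveI := S.trans
  let h : V ≃ V0 := (Equiv.ofBijective _ C.bij).symm.trans (Equiv.ofBijective _ C'.bij)
  let ρ : G →* Equiv.Perm V0 := h.permCongrHom.toMonoidHom.comp (toPermHom G V)
  have hρ : Function.Injective ρ := h.permCongrHom.injective.comp MulAction.toPerm_injective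
  have hle : ρ.range ≤ autS := by
    rintro _ ⟨g, rfl⟩ x y
    have key : ∀ p q : V, S.Adj p q ↔ modelSetup.Adj (h p) (h q) := by
      intro p q
      obtain ⟨i, rfl⟩ := C.bij.2 p
      obtain ⟨j, rfl⟩ := C.bij.2 q
      have e : ∀ i, h (C.f i) = C'.f i := fun i => by
        show C'.f ((Equiv.ofBijective _ C.bij).symm (C.f i)) = _
        rw [Equiv.ofBijective_symm_apply_apply]
      rw [e, e]
      exact adj_coord_iff C C' i j
    have e : ∀ x, ρ g x = h (g • h.symm x) := fun x => rfl
    show modelSetup.Adj (ρ g x) (ρ g y) ↔ modelSetup.Adj x y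
    rw [e, e, ← key, S.adj_smul, key, h.apply_symm_apply, h.apply_symm_apply]
  have hcard : Nat.card ρ.range = Nat.card SG := by
    rw [← Nat.card_congr (MonoidHom.ofInjective hρ).toEquiv]
    have h1 := Subgroup.index_mul_card (stabilizer G S.a)
    rw [index_stabilizer_of_transitive, S.card, ← Nat.card_congr S.ψ.toEquiv, SL_card] at h1
    rw [SG_card, ← h1]
  haveI := SG_simple
  have hidx : (ρ.range.subgroupOf SG).index ≤ 2 := by
    have h1 : ρ.range.relIndex autS ≤ 2 := by
      have h2 := Subgroup.index_mul_card (ρ.range.subgroupOf autS)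
      rw [Nat.card_congr (Subgroup.subgroupOfEquivOfLe hle).toEquiv, hcard] at h2
      have h3 := card_autS_le
      rw [← h2] at h3
      exact Nat.le_of_mul_le_mul_right h3 Nat.card_pos
    refine le_trans (Subgroup.relIndex_le_of_le_right SG_le_autS ?_) h1
    exact Subgroup.index_ne_zero_of_finite
  have htop : ρ.range.subgroupOf SG = ⊤ := by
    set M := ρ.range.subgroupOf SG with hM
    have hne := Subgroup.index_ne_zero_of_finite (H := M)
    rcases (by omega : M.index = 1 ∨ M.index = 2) with e | e
    · exact Subgroup.index_eq_one.mp e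
    · rcases (Subgroup.normal_of_index_eq_two e).eq_bot_or_eq_top with hb | ht
      · rw [hb, Subgroup.index_bot, SG_card] at e; norm_num at e
      · exact ht
  have heq : ρ.range = SG := (Subgroup.eq_of_le_of_card_ge (Subgroup.subgroupOf_eq_top.mp htop)
    (le_of_eq hcard)).symm
  exact ⟨(MonoidHom.ofInjective hρ).trans ((MulEquiv.subgroupCongr heq).trans
    (MonoidHom.ofInjective act_injective).symm)⟩

end Cfsg.Agent.Lib.SuzRank3
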