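import Cfsg.Agent.Lib.SuzRank3.Cls

/-!
Subgroups of index 416 of the point stabiliser fix a point of the small suborbit.
-/

set_option autoImplicit false
set_option linter.style.haveILetI false
set_option maxRecDepth 4000

namespace Cfsg.Agent.Lib.SuzRank3

open MulAction
open Cfsg.Agent.Lib.CosetTable

/-- a generator normalising a `p`-subgroup extends it to a `p`-subgroup -/
theorem isPGroup_adjoin {K : Type*} [Group K] [Finite K] {p : ℕ} {s : Set K}
    (hs : IsPGroup p (Subgroup.closure s)) {x : K} {n : ℕ} (hx : x ^ p ^ n = 1)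
    (hn : ∀ c ∈ s, x * c * x⁻¹ ∈ Subgroup.closure s) :
    IsPGroup p (Subgroup.closure (insert x s)) := by
  have hle : Subgroup.zpowers x ≤ Subgroup.normalizer (Subgroup.closure s : Set K) := by
    rw [Subgroup.zpowers_le]
    have hmap : (Subgroup.closure s).map (MulAut.conj x).toMonoidHom ≤ Subgroup.closure s := by
      rw [MonoidHom.map_closure, Subgroup.closure_le]
      rintro _ ⟨c, hc, rfl⟩
      exact hn c hc
    have heq : (Subgroup.closure s).map (MulAut.conj x).toMonoidHom = Subgroup.closure s :=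
      Subgroup.eq_of_le_of_card_ge hmap
        (le_of_eq (Nat.card_congr (Subgroup.equivMapOfInjective (Subgroup.closure s)
          (MulAut.conj x).toMonoidHom (MulAut.conj x).injective).toEquiv))
    rw [Subgroup.mem_normalizer_iff]
    intro c
    constructor
    · intro hc; rw [← heq]; exact ⟨c, hc, rfl⟩
    · intro hc
      rw [← heq] at hc
      obtain ⟨d, hd, e⟩ := hc
      rwa [← (MulAut.conj x).injective e]
  have hzp : IsPGroup p (Subgroup.zpowers x) := by
    rintro ⟨y, hy⟩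
    obtain ⟨k, rfl⟩ := Subgroup.mem_zpowers_iff.mp hy
    refine ⟨n, Subtype.ext ?_⟩
    show (x ^ k) ^ p ^ n = 1
    rw [← zpow_natCast, ← zpow_mul, mul_comm, zpow_mul, zpow_natCast, hx, one_zpow]
  have := hzp.to_sup_of_normal_right' hs hle
  refine this.to_le ?_
  rw [Subgroup.closure_le]
  rintro y (rfl | hy)
  · exact Subgroup.mem_sup_left (Subgroup.mem_zpowers _)
  · exact Subgroup.mem_sup_right (Subgroup.subset_closure hy)

/-- a `p`-subgroup is conjugate into any subgroup of full `p`-part -/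
theorem exists_conj_le {K : Type*} [Group K] [Finite K] {p n : ℕ} [hp : Fact p.Prime]
    (P : Subgroup K) (hP : IsPGroup p P) (H : Subgroup K)
    (hn : p ^ n ∣ Nat.card H) (hn' : ¬ p ^ (n + 1) ∣ Nat.card K) :
    ∃ g : K, ∀ x ∈ P, g * x * g⁻¹ ∈ H := by
  obtain ⟨R, hR⟩ := Sylow.exists_subgroup_card_pow_prime p hn
  have hR' : Nat.card (R.map H.subtype) = p ^ n := by
    rw [← Nat.card_congr (R.equivMapOfInjective _ H.subtype_injective).toEquiv, hR]
  obtain ⟨R', hle⟩ := (IsPGroup.of_card hR').exists_le_sylow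
  have heq : R.map H.subtype = R'.toSubgroup := by
    refine Subgroup.eq_of_le_of_card_ge hle ?_
    obtain ⟨m, hm⟩ := IsPGroup.iff_card.mp R'.2
    rw [hR', hm]
    refine Nat.pow_le_pow_right hp.out.pos ?_
    by_contra h
    exact hn' ((pow_dvd_pow p (by omega : n + 1 ≤ m)).trans (hm ▸ Subgroup.card_subgroup_dvd_card _))
  obtain ⟨Q, hQ⟩ := hP.exists_le_sylow
  obtain ⟨g, hg⟩ := MulAction.exists_smul_eq K Q R'
  refine ⟨g, fun x hx => ?_⟩
  have : g * x * g⁻¹ ∈ R'.toSubgroup := by
    rw [← hg]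
    exact ⟨x, hQ hx, rfl⟩
  rw [← heq] at this
  obtain ⟨r, -, hr⟩ := this
  exact hr ▸ r.2

/-- membership -/
noncomputable def memN (k : ℕ) (l : List ℕ) : Bool :=
  List.rec (motive := fun _ => Bool) false (fun x _ ih => iteB (Nat.beq x k) true ih) l

theorem memN_spec {k : ℕ} : ∀ {l : List ℕ}, memN k l = true → k ∈ l
  | [], h => Bool.noConfusion (h : false = true)
  | x :: l, h => by
    change iteB (Nat.beq x k) true (memN k l) = true at h
    rw [iteB_eq, Bool.cond_true_left, Bool.or_eq_true, beq_iff] at h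
    rcases h with h | h
    · exact h ▸ List.mem_cons_self
    · exact List.mem_cons_of_mem _ (memN_spec h)

theorem allBelow (p : ℕ → Bool) : ∀ m : ℕ, (∀ j < m, p j = true) → rangeAll p m 0 = true := by
  have key : ∀ m i : ℕ, (∀ j, i ≤ j → j < i + m → p j = true) → rangeAll p m i = true := by
    intro m
    induction m with
    | zero => intros; rfl
    | succ m ih =>
      intro i h
      show force i (fun j => andB (p j) (rangeAll p m (Nat.succ j))) = true
      rw [force_eq, andB_eq, h i le_rfl (by omega), ih _ fun j h1 h2 => h j (by omega) (by omega)]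
      rfl
  exact fun m h => key m 0 fun j _ hj => h j (by omega)

/-- data of the elementary abelian subgroup of order 25 and of the masks missing its fixed point -/
structure P5Data where
  /-- first generator -/
  uw : List ℕ
  /-- second generator -/
  vw : List ℕ
  /-- the fixed point -/
  p : ℕ
  /-- the 25 permutations -/
  pu : List ℕ
  /-- representatives of the bad masks -/
  reps : List ℕ
  /-- the representative of each bad mask -/
  badR : ℕ
  /-- and the element moving it there -/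
  badE : ℕ
  /-- representatives of the points -/
  os : List ℕ
  /-- the representative of each point -/
  ptO : ℕ
  /-- and the element moving it there -/
  ptE : ℕ

namespace P5Data

variable (Q : P5Data) (D : ClassData)

/-- element number `e` -/
noncomputable def puAt (e i : ℕ) : ℕ := at16 (natAt Q.pu e) i

/-- the element `e` as a permutation -/
noncomputable def puChk (e : ℕ) : Bool :=
  rangeAll (fun i => andB (Nat.blt (Q.puAt e i) 416)
    (iteB (Nat.beq e 0) (Nat.beq (Q.puAt e i) i)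
      (iteB (Nat.beq (Nat.mod e 5) 0)
        (Nat.beq (Q.puAt e i) (D.tbl.walk Q.uw (Q.puAt (Nat.sub e 5) i)))
        (Nat.beq (Q.puAt e i) (D.tbl.walk Q.vw (Q.puAt (Nat.sub e 1) i)))))) 416 0

/-- a mask missing the fixed point -/
noncomputable def badChk (k : ℕ) : Bool :=
  iteB (bitB (D.msk k) Q.p) true
    (force (at16 Q.badR k) fun r => force (at16 Q.badE k) fun e =>
      andB (Nat.blt r Q.reps.length) (andB (Nat.blt e 25)
        (Nat.beq (imgMask (at16 (natAt Q.pu e)) (D.pk (natAt Q.reps r))) (D.msk k))))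

/-- a point -/
noncomputable def ptChk (i : ℕ) : Bool :=
  iteB (Nat.beq i Q.p) true
    (force (at16 Q.ptO i) fun o => force (at16 Q.ptE i) fun e =>
      andB (Nat.blt o Q.os.length) (andB (Nat.blt e 25)
        (Nat.beq (Q.puAt e (natAt Q.os o)) i)))

/-- the masks through `p` and the three points belonging to `o` are in `S` -/
noncomputable def sChk (o : ℕ) (S : List ℕ) : Bool :=
  force (D.tbl.walk Q.uw o) fun o1 => force (D.tbl.walk Q.vw o) fun o2 =>
    rangeAll (fun k => force (D.msk k) fun M =>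
      iteB (andB (bitB M Q.p) (andB (bitB M o) (andB (bitB M o1) (bitB M o2)))) (memN k S) true)
      2080 0

end P5Data

/-- the image of mask `k` under the word lies in mask `j` -/
noncomputable def subChk (D : ClassData) (h : List ℕ) (k j : ℕ) : Bool :=
  force (D.msk j) fun M => rangeAll (fun t => bitB M (D.tbl.walk h (at16 (D.pk k) t))) 56 0

/-- those members of `S` whose image is again in `S` -/
noncomputable def stayList (D : ClassData) (h : List ℕ) (S : List ℕ) : List ℕ :=
  S.filter fun k => S.any fun j => subChk D h k j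

/-- a representative of a bad mask generates a transitive group with `u` and `v` -/
def RepOK (D : ClassData) (Q : P5Data) (r : ℕ) : Prop :=
  r < 2080 ∧ D.rootOK 20 r = true ∧ ∃ O : Orb, O.m = 416 ∧ Suz1782.orb1.mem (O.get 0) = true ∧
    Below (O.reachOK Suz1782.tab [Q.uw, Q.vw, D.pathW 20 r]) O.m

/-- a representative point -/
def PtOK (D : ClassData) (Q : P5Data) (o : ℕ) : Prop :=
  o < 416 ∧ ∃ S W : List ℕ, Q.sChk D o S = true ∧ allL (fun k => Nat.blt k 2080) S = true ∧
    S.length ≤ 10 ∧ (S.filter fun k => ! memN k W).length ≤ 4 ∧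
    ∀ s ∈ W, s < 2080 ∧ ∃ g, ltOK 6 g = true ∧ imgMask (D.tbl.walk g) (D.pk s) = D.msk s ∧
      (stayList D (g ++ g ++ g ++ g) S).length ≤ 4

/-- the checked facts about the subgroup of order 25 -/
structure P5OK (D : ClassData) (Q : P5Data) (rows : List (ℕ × ℕ)) : Prop where
  words : ltOK 6 Q.uw = true ∧ ltOK 6 Q.vw = true
  p_lt : Q.p < 416
  fixp : D.tbl.walk Q.uw Q.p = Q.p ∧ D.tbl.walk Q.vw Q.p = Q.p
  comm : baseEq (rows.map Prod.fst) (Q.uw ++ Q.vw) (Q.vw ++ Q.uw) = true
  powu : baseEq (rows.map Prod.fst) (List.replicate 5 Q.uw).flatten [] = true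
  powv : baseEq (rows.map Prod.fst) (List.replicate 5 Q.vw).flatten [] = true
  perms : Below (Q.puChk D) 25
  bad : Below (Q.badChk D) 2080
  pts : Below (Q.ptChk) 416
  repsOK : ∀ r ∈ Q.reps, RepOK D Q r
  osOK : ∀ o ∈ Q.os, PtOK D Q o

theorem natAt_eq_getD : ∀ (l : List ℕ) (i : ℕ), natAt l i = l.getD i 0
  | [], _ => rfl
  | _ :: _, 0 => rfl
  | _ :: l, i + 1 => natAt_eq_getD l i

theorem natAt_mem {l : List ℕ} {i : ℕ} (h : i < l.length) : natAt l i ∈ l := by
  rw [natAt_eq_getD, List.getD_eq_getElem _ _ h]; exact List.getElem_mem h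

section Main

variable {D : ClassData} {Q : P5Data} {rows rowsF : List (ℕ × ℕ)}
  (C : ClassOK D rows rowsF) (F : P5OK D Q rows)

include C F in
theorem puAt_spec {H : Subgroup SL} (hu : lw Q.uw ∈ H) (hv : lw Q.vw ∈ H) :
    ∀ e < 25, ∃ t ∈ H, ∀ i : Fin 416, ∃ h : Q.puAt e i < 416, t • qq i = qq ⟨Q.puAt e i, h⟩ := by
  intro e
  induction e using Nat.strongRecOn with
  | _ e IH =>
    intro he
    have hc : ∀ i : Fin 416, Q.puAt e i < 416 ∧ cond (Nat.beq e 0) (Nat.beq (Q.puAt e i) i)
        (cond (Nat.beq (Nat.mod e 5) 0)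
          (Nat.beq (Q.puAt e i) (D.tbl.walk Q.uw (Q.puAt (Nat.sub e 5) i)))
          (Nat.beq (Q.puAt e i) (D.tbl.walk Q.vw (Q.puAt (Nat.sub e 1) i)))) = true := by
      intro i
      have h := rangeAll_spec (F.perms e he) (i : ℕ) (Nat.zero_le _) (by omega)
      rw [andB_eq, iteB_eq, iteB_eq, Bool.and_eq_true] at h
      exact ⟨blt_iff.mp h.1, h.2⟩
    by_cases h0 : e = 0
    · subst h0
      refine ⟨1, H.one_mem, fun i => ⟨(hc i).1, ?_⟩⟩
      rw [one_smul]
      exact congrArg qq (Fin.ext (beq_iff.mp (hc i).2).symm)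
    · have hb : Nat.beq e 0 = false := Bool.eq_false_iff.mpr fun x => h0 (beq_iff.mp x)
      by_cases h5 : e % 5 = 0
      · obtain ⟨t, ht, hti⟩ := IH (e - 5) (by omega) (by omega)
        refine ⟨lw Q.uw * t, H.mul_mem hu ht, fun i => ⟨(hc i).1, ?_⟩⟩
        obtain ⟨hlt, eq⟩ := hti i
        obtain ⟨hlt2, eq2⟩ := Linked.walk C.link F.words.1 ⟨_, hlt⟩
        rw [mul_smul, eq, eq2]
        have h2 := (hc i).2
        rw [hb, show Nat.beq (Nat.mod e 5) 0 = true from beq_iff.mpr h5] at h2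
        exact congrArg qq (Fin.ext (beq_iff.mp h2).symm)
      · obtain ⟨t, ht, hti⟩ := IH (e - 1) (by omega) (by omega)
        refine ⟨lw Q.vw * t, H.mul_mem hv ht, fun i => ⟨(hc i).1, ?_⟩⟩
        obtain ⟨hlt, eq⟩ := hti i
        obtain ⟨hlt2, eq2⟩ := Linked.walk C.link F.words.2 ⟨_, hlt⟩
        rw [mul_smul, eq, eq2]
        have h2 := (hc i).2
        rw [hb, show Nat.beq (Nat.mod e 5) 0 = false from
          Bool.eq_false_iff.mpr fun x => h5 (beq_iff.mp x)] at h2
        exact congrArg qq (Fin.ext (beq_iff.mp h2).symm)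

include C in
/-- masks of images of the point lists -/
theorem mask_image {y t : SL} {k : ℕ} {f : ℕ → ℕ} (hk : k < 2080) (hy : HasMask y (D.msk k))
    {N : ℕ} (hN : imgMask f (D.pk k) = N)
    (hf : ∀ i : Fin 416, ∃ h : f i < 416, t • qq i = qq ⟨f i, h⟩) :
    HasMask (t * y * t⁻¹) N := by
  obtain ⟨hp, -, -⟩ := C.chk_spec hk
  refine hy.conj (Nat.lt_pow_two_of_testBit _ fun i hi => Bool.eq_false_iff.mpr fun h => ?_)
    fun i j hij => ?_
  · rw [← hN, testBit_imgMask] at h
    obtain ⟨s, hs, rfl⟩ := h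
    obtain ⟨hlt, -⟩ := hf ⟨_, hp s hs⟩
    simp only at hlt
    omega
  · rw [← hN, testBit_imgMask, C.testBit_msk hk]
    obtain ⟨hlt, e⟩ := hf i
    rw [e] at hij
    have hj : f i = (j : ℕ) := congrArg Fin.val (qq_injective hij)
    refine exists_congr fun s => and_congr_right fun hs => ⟨fun h => ?_, fun h => by rw [h, hj]⟩
    obtain ⟨hlt', e'⟩ := hf ⟨_, hp s hs⟩
    have : t • qq ⟨_, hp s hs⟩ = t • qq i := by
      rw [e', e]; exact congrArg qq (Fin.ext (h.trans hj.symm))
    exact congrArg Fin.val (qq_injective (MulAction.injective t this))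

include C F in
theorem mask_has_p {H : Subgroup SL} (hH : Nat.card H = 604800) (hu : lw Q.uw ∈ H)
    (hv : lw Q.vw ∈ H) {y : SL} (hy : InC y) (hyH : y ∈ H) {k : ℕ} (hk : k < 2080)
    (hm : HasMask y (D.msk k)) : (D.msk k).testBit Q.p = true := by
  by_contra hcon
  rw [Bool.not_eq_true] at hcon
  have h := F.bad k hk
  simp only [P5Data.badChk, force_eq, andB_eq, iteB_eq, bitB_eq, hcon, cond_false,
    Bool.and_eq_true, beq_iff, blt_iff] at h
  obtain ⟨hr, he, himg⟩ := h
  obtain ⟨hr', hroot, O, hOm, hO0, hreach⟩ := F.repsOK _ (natAt_mem hr)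
  obtain ⟨hl, hc, hmr⟩ := C.pathW_spec 20 _ hr' hroot
  obtain ⟨t, ht, hti⟩ := puAt_spec C F hu hv _ he
  have hyr : lw (D.pathW 20 (natAt Q.reps (at16 Q.badR k))) ∈ H := by
    have h2 : InC (t * lw (D.pathW 20 (natAt Q.reps (at16 Q.badR k))) * t⁻¹) := hc.conj t
    have hm2 : HasMask (t * lw (D.pathW 20 (natAt Q.reps (at16 Q.badR k))) * t⁻¹) (D.msk k) :=
      mask_image C hr' hmr himg hti
    rcases C.eq_or_inv h2 hy hm2 hm with e | e
    · have : t⁻¹ * y * t ∈ H := H.mul_mem (H.mul_mem (H.inv_mem ht) hyH) ht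
      rw [e] at this; simpa [mul_assoc] using this
    · have : t⁻¹ * y⁻¹ * t ∈ H := H.mul_mem (H.mul_mem (H.inv_mem ht) (H.inv_mem hyH)) ht
      rw [e] at this; simpa [mul_assoc] using this
  have hin : InGroup H [Q.uw, Q.vw, D.pathW 20 (natAt Q.reps (at16 Q.badR k))] := by
    intro w hw
    simp only [List.mem_cons, List.not_mem_nil, or_false] at hw
    rcases hw with rfl | rfl | rfl
    · exact ⟨F.words.1, hu⟩
    · exact ⟨F.words.2, hv⟩
    · exact ⟨hl, hyr⟩
  have hm0 : 0 < O.m := by omega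
  let x := rpt hreach ⟨0, hm0⟩
  have hx : x ∈ pset O := by rw [pset_eq_range hreach]; exact ⟨_, rfl⟩
  have h1 : pset O ⊆ orbit H x := pset_subset_orbit hreach hin hx
  have h2 : orbit H x ⊆ pset Suz1782.orb1 := by
    rintro _ ⟨h, rfl⟩
    rw [← orbit_eq_pset Suz1782.orb1_ok (show x ∈ pset Suz1782.orb1 from hO0)]
    exact mem_orbit x (h : SL)
  have h3 : (orbit H x).ncard = 416 := le_antisymm
    (by rw [← orb1_m, ← ncard_pset orb1_reach]; exact Set.ncard_le_ncard h2 (Set.toFinite _))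
    (by rw [← hOm, ← ncard_pset hreach]; exact Set.ncard_le_ncard h1 (Set.toFinite _))
  have h4 := card_orbit_mul (K := H) x
  rw [h3, hH] at h4
  omega

include C F in
theorem eq_stab_p {H : Subgroup SL} (hH : Nat.card H = 604800) (hu : lw Q.uw ∈ H)
    (hv : lw Q.vw ∈ H) {z : SL} (hz : InC z) (hzH : z ∈ H) :
    H = stabilizer SL (qq ⟨Q.p, F.p_lt⟩) := by
  classical
  set P := qq ⟨Q.p, F.p_lt⟩ with hPdef
  have hcardst : Nat.card (stabilizer SL P) = 604800 := by
    have h := card_orbit_mul (K := SL) P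
    rw [hPdef, orbit_qq, Set.ncard_range_of_injective qq_injective, Nat.card_fin, SL_card] at h
    rw [hPdef]
    omega
  refine Subgroup.eq_of_le_of_card_ge ?_ (by rw [hcardst, hH])
  have hfixP : ∀ y, InC y → y ∈ H → y • P = P := by
    intro y hy hyH
    obtain ⟨k, hk, hm⟩ := C.exists_mask hy
    exact (hm.2 ⟨Q.p, F.p_lt⟩).mp (mask_has_p C F hH hu hv hy hyH hk hm)
  by_contra hle
  obtain ⟨h0, hh0, hne⟩ := SetLike.not_le_iff_exists.mp hle
  rw [mem_stabilizer_iff] at hne
  obtain ⟨i, hi⟩ := exists_qq h0 ⟨Q.p, F.p_lt⟩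
  rw [← hPdef] at hi
  have hip : (i : ℕ) ≠ Q.p := fun e => hne (by
    rw [hi, show i = ⟨Q.p, F.p_lt⟩ from Fin.ext e])
  have hpt := F.pts i i.2
  simp only [P5Data.ptChk, force_eq, andB_eq, iteB_eq,
    Bool.eq_false_iff.mpr (fun e => hip (beq_iff.mp e)), cond_false, Bool.and_eq_true, beq_iff,
    blt_iff] at hpt
  obtain ⟨ho, he, hoi⟩ := hpt
  set o := natAt Q.os (at16 Q.ptO i) with hodef
  obtain ⟨ho416, S, W, hS, hS2, hS10, hW, hwit⟩ := F.osOK o (natAt_mem ho)
  obtain ⟨t, ht, hti⟩ := puAt_spec C F hu hv _ he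
  -- every class element of `H` fixes the orbit of `P`
  have hfix : ∀ y, InC y → y ∈ H → ∀ h ∈ H, y • h • P = h • P := by
    intro y hy hyH h hh
    have := hfixP _ (hy.conj h⁻¹) (by
      rw [inv_inv]; exact H.mul_mem (H.mul_mem (H.inv_mem hh) hyH) hh)
    rw [inv_inv, mul_smul, mul_smul, inv_smul_eq_iff] at this
    exact this
  have horb : ∃ h ∈ H, h • P = qq ⟨o, ho416⟩ := by
    refine ⟨t⁻¹ * h0, H.mul_mem (H.inv_mem ht) hh0, ?_⟩
    obtain ⟨hlt, e⟩ := hti ⟨o, ho416⟩
    rw [mul_smul, inv_smul_eq_iff, hi, e]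
    exact congrArg qq (Fin.ext hoi.symm)
  have hmask : ∀ y, InC y → y ∈ H → ∀ k < 2080, HasMask y (D.msk k) → k ∈ S := by
    intro y hy hyH k hk hm
    obtain ⟨h, hh, hho⟩ := horb
    have bit : ∀ j : Fin 416, (∃ h ∈ H, h • P = qq j) → (D.msk k).testBit j = true := by
      rintro j ⟨h', hh', e⟩
      rw [hm.2 j, ← e]
      exact hfix y hy hyH h' hh'
    obtain ⟨l1, e1⟩ := Linked.walk C.link F.words.1 ⟨o, ho416⟩
    obtain ⟨l2, e2⟩ := Linked.walk C.link F.words.2 ⟨o, ho416⟩
    have b0 := bit ⟨Q.p, F.p_lt⟩ ⟨1, H.one_mem, one_smul _ _⟩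
    have b1 := bit ⟨o, ho416⟩ ⟨h, hh, hho⟩
    have b2 := bit ⟨_, l1⟩ ⟨lw Q.uw * h, H.mul_mem hu hh, by rw [mul_smul, hho, e1]⟩
    have b3 := bit ⟨_, l2⟩ ⟨lw Q.vw * h, H.mul_mem hv hh, by rw [mul_smul, hho, e2]⟩
    simp only [P5Data.sChk, force_eq] at hS
    have hk' := rangeAll_spec hS k (Nat.zero_le _) (by omega)
    simp only [andB_eq, iteB_eq, bitB_eq, b0, b1, b2, b3, Bool.and_true, cond_true] at hk'
    exact memN_spec hk'
  have hex : ∀ y : SL, ∃ k, InC y → k < 2080 ∧ HasMask y (D.msk k) := fun y => by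
    by_cases h : InC y
    · obtain ⟨k, hk⟩ := C.exists_mask h
      exact ⟨k, fun _ => hk⟩
    · exact ⟨0, fun h' => absurd h' h⟩
  choose kf hkf using hex
  let Dset : Finset SL := (Set.toFinite {y : SL | InC y ∧ y ∈ H}).toFinset
  have memD : ∀ y, y ∈ Dset ↔ InC y ∧ y ∈ H := fun y => Set.Finite.mem_toFinset _
  let Ks : Finset ℕ := Dset.image kf
  have hKS : ∀ k ∈ Ks, k ∈ S := by
    intro k hk
    obtain ⟨y, hy, rfl⟩ := Finset.mem_image.mp hk
    obtain ⟨hyC, hyH⟩ := (memD y).mp hy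
    exact hmask y hyC hyH _ (hkf y hyC).1 (hkf y hyC).2
  have hD : Dset.card ≤ 2 * Ks.card := by
    refine Finset.card_le_mul_card_image Dset 2 fun k hk => ?_
    obtain ⟨y, hy, rfl⟩ := Finset.mem_image.mp hk
    obtain ⟨hyC, -⟩ := (memD y).mp hy
    refine le_trans (Finset.card_le_card ?_) (Finset.card_le_two (a := y) (b := y⁻¹))
    intro y' hy'
    obtain ⟨hy'D, hk'⟩ := Finset.mem_filter.mp hy'
    obtain ⟨hy'C, -⟩ := (memD y').mp hy'D
    rcases C.eq_or_inv hyC hy'C (hkf y hyC).2 (hk' ▸ (hkf y' hy'C).2) with e | e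
    · simp [e]
    · simp [e]
  have hcent : ∀ {y : SL}, InC y → y ∈ H → 604800 ≤
      Dset.card * Nat.card ↥(Subgroup.centralizer ({y} : Set SL) ⊓ H) := by
    intro y hy hyH
    let H' : Subgroup (ConjAct SL) := H.map ConjAct.toConjAct.toMonoidHom
    have h := card_orbit_mul (K := ↥H') (X := SL) y
    have hc' : Nat.card H' = 604800 := by
      rw [← hH]
      exact (Nat.card_congr (H.equivMapOfInjective ConjAct.toConjAct.toMonoidHom
        ConjAct.toConjAct.injective).toEquiv).symm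
    rw [hc'] at h
    refine le_trans (le_of_eq h.symm) (Nat.mul_le_mul ?_ ?_)
    · rw [← Set.ncard_coe_finset]
      refine Set.ncard_le_ncard ?_ Dset.finite_toSet
      rintro _ ⟨⟨_, c, hc, rfl⟩, rfl⟩
      rw [Finset.mem_coe, memD]
      show InC (ConjAct.toConjAct c • y) ∧ ConjAct.toConjAct c • y ∈ H
      rw [ConjAct.smul_def, ConjAct.ofConjAct_toConjAct]
      exact ⟨hy.conj c, H.mul_mem (H.mul_mem hc hyH) (H.inv_mem hc)⟩
    · have key : ∀ x : stabilizer H' y, ConjAct.ofConjAct (x.1 : ConjAct SL) ∈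
          Subgroup.centralizer ({y} : Set SL) ⊓ H := by
        rintro ⟨⟨_, c, hc, rfl⟩, hx⟩
        refine Subgroup.mem_inf.mpr ⟨?_, hc⟩
        rw [Subgroup.mem_centralizer_singleton_iff]
        have : ConjAct.toConjAct c • y = y := hx
        rw [ConjAct.smul_def, ConjAct.ofConjAct_toConjAct, mul_inv_eq_iff_eq_mul] at this
        exact this
      exact Nat.card_le_card_of_injective (fun x => ⟨_, key x⟩) fun a b e =>
        Subtype.ext (Subtype.ext (ConjAct.ofConjAct.injective (congrArg Subtype.val e :)))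
  have hDcard : 10 ≤ Dset.card := by
    have h1 := hcent hz hzH
    have h2 := C.card_centralizer hz
    have h3 := Nat.card_mono (Set.toFinite _)
      (show ((Subgroup.centralizer ({z} : Set SL) ⊓ H : Subgroup SL) : Set SL) ⊆
        Subgroup.centralizer ({z} : Set SL) from fun x hx => hx.1)
    have h4 := le_trans h1 (Nat.mul_le_mul le_rfl (le_trans h3 h2))
    omega
  have hKs : 5 ≤ Ks.card := by omega
  obtain ⟨s, hsK, hsW⟩ : ∃ s ∈ Ks, s ∈ W := by
    by_contra hno
    push Not at hno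
    have : Ks ⊆ (S.filter fun k => ! memN k W).toFinset := by
      intro k hk
      rw [List.mem_toFinset, List.mem_filter]
      refine ⟨hKS k hk, ?_⟩
      cases hmem : memN k W
      · rfl
      · exact absurd (memN_spec hmem) (hno k hk)
    have := (Finset.card_le_card this).trans (List.toFinset_card_le _)
    omega
  obtain ⟨hs, g, hg, hgimg, hstay⟩ := hwit s hsW
  obtain ⟨y, hyD, hys⟩ := Finset.mem_image.mp hsK
  obtain ⟨hyC, hyH⟩ := (memD y).mp hyD
  have hym : HasMask y (D.msk s) := hys ▸ (hkf y hyC).2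
  -- a fourth power of `g` lies in `H`
  have hsq : Commute (lw g ^ 2) y := by
    have hm2 : HasMask (lw g * y * (lw g)⁻¹) (D.msk s) :=
      mask_image C hs hym hgimg fun i => Linked.walk C.link hg i
    have conj2 : lw g ^ 2 * y * (lw g ^ 2)⁻¹ = y := by
      rcases C.eq_or_inv hyC (hyC.conj _) hym hm2 with e | e
      · calc lw g ^ 2 * y * (lw g ^ 2)⁻¹ = lw g * (lw g * y * (lw g)⁻¹) * (lw g)⁻¹ := by
              rw [pow_two, mul_inv_rev]; simp only [mul_assoc]
          _ = y := by rw [e, e]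
      · calc lw g ^ 2 * y * (lw g ^ 2)⁻¹ = lw g * (lw g * y * (lw g)⁻¹) * (lw g)⁻¹ := by
              rw [pow_two, mul_inv_rev]; simp only [mul_assoc]
          _ = lw g * y⁻¹ * (lw g)⁻¹ := by rw [e]
          _ = y := by rw [← conj_inv, e, inv_inv]
    exact mul_inv_eq_iff_eq_mul.mp conj2
  set Cy := Subgroup.centralizer ({y} : Set SL) with hCy
  have h4 : lw g ^ 4 ∈ H := by
    let a : Cy := ⟨lw g ^ 2, Subgroup.mem_centralizer_singleton_iff.mpr hsq⟩
    have hidx : (H.subgroupOf Cy).index ≤ 2 := by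
      have h1 := hcent hyC hyH
      have h2 := C.card_centralizer hyC
      have h3 : Dset.card ≤ 20 := by
        have : Ks.card ≤ S.toFinset.card :=
          Finset.card_le_card fun k hk => List.mem_toFinset.mpr (hKS k hk)
        have := this.trans (List.toFinset_card_le _)
        omega
      have e : Nat.card (H.subgroupOf Cy) = Nat.card ↥(Cy ⊓ H) := by
        rw [inf_comm, ← Subgroup.inf_subgroupOf_right H Cy]
        exact Nat.card_congr (Subgroup.subgroupOfEquivOfLe inf_le_right).toEquiv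
      have h6 := Subgroup.index_mul_card (H.subgroupOf Cy)
      rw [e] at h6
      have h7 := h1.trans (Nat.mul_le_mul h3 le_rfl)
      nlinarith
    have hne : (H.subgroupOf Cy).index ≠ 0 := Subgroup.index_ne_zero_of_finite
    have hmem : a ^ 2 ∈ H.subgroupOf Cy := by
      rcases (by omega : (H.subgroupOf Cy).index = 1 ∨ (H.subgroupOf Cy).index = 2) with e | e
      · rw [Subgroup.index_eq_one.mp e]; trivial
      · exact Subgroup.sq_mem_of_index_two e a
    rw [Subgroup.mem_subgroupOf] at hmem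
    show lw g ^ (2 * 2) ∈ H
    rw [pow_mul]
    exact hmem
  have hg4 : ltOK 6 (g ++ g ++ g ++ g) = true :=
    ltOK_append (ltOK_append (ltOK_append hg hg) hg) hg
  have elw : lw (g ++ g ++ g ++ g) = lw g ^ 4 := by
    rw [lw_append (ltOK_append (ltOK_append hg hg) hg) hg, lw_append (ltOK_append hg hg) hg,
      lw_append hg hg]
    simp only [pow_succ, pow_zero, one_mul, mul_assoc]
  have hsub : Ks ⊆ (stayList D (g ++ g ++ g ++ g) S).toFinset := by
    intro k hk
    obtain ⟨y', hy', rfl⟩ := Finset.mem_image.mp hk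
    obtain ⟨hy'C, hy'H⟩ := (memD y').mp hy'
    have hc := hy'C.conj (lw g ^ 4)
    have hcH : lw g ^ 4 * y' * (lw g ^ 4)⁻¹ ∈ H :=
      H.mul_mem (H.mul_mem h4 hy'H) (H.inv_mem h4)
    obtain ⟨j, hj, hjm⟩ := C.exists_mask hc
    rw [List.mem_toFinset, stayList, List.mem_filter]
    refine ⟨hKS _ hk, List.any_eq_true.mpr ⟨j, hmask _ hc hcH j hj hjm, ?_⟩⟩
    simp only [subChk, force_eq]
    refine allBelow _ _ fun t ht => ?_
    have hp := (C.chk_spec (hkf y' hy'C).1).1 t ht
    obtain ⟨hlt, e⟩ := Linked.walk C.link hg4 ⟨_, hp⟩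
    rw [bitB_eq, hjm.2 ⟨_, hlt⟩, ← e, elw, conj_fix, ← (hkf y' hy'C).2.2 ⟨_, hp⟩]
    exact (C.testBit_msk (hkf y' hy'C).1).mpr ⟨t, ht, rfl⟩
  have := (Finset.card_le_card hsub).trans (List.toFinset_card_le _)
  omega

end Main

end Cfsg.Agent.Lib.SuzRank3
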