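import Cfsg.Agent.Lib.SuzRank3.Sub416

/-!
Moving a subgroup of index 416 so that it contains the given subgroup of order 25.
-/

set_option autoImplicit false
set_option linter.style.haveILetI false

namespace Cfsg.Agent.Lib.SuzRank3

open MulAction
open Cfsg.Agent.Lib.CosetTable

variable {D : ClassData} {Q : P5Data} {rows rowsF : List (ℕ × ℕ)}
  (C : ClassOK D rows rowsF) (F : P5OK D Q rows)

include C F in
theorem sub416_main (H : Subgroup SL) (hH : Nat.card H = 604800) :
    ∃ l : SL, H = stabilizer SL (l • (47 : V0)) := by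
  -- the subgroup of order 25
  haveI : Fact (Nat.Prime 5) := ⟨by norm_num⟩
  haveI : Fact (Nat.Prime 3) := ⟨by norm_num⟩
  set u := lw Q.uw with hu
  set v := lw Q.vw with hv
  have hfl := fun w (hw : ltOK 6 w = true) (h : baseEq (rows.map Prod.fst)
      (List.replicate 5 w).flatten [] = true) => by
    have e := C.sep.lw_ext (lw_flatten_replicate hw 5).1 (rfl : ltOK 6 [] = true) h
    rw [(lw_flatten_replicate hw 5).2, lw_nil] at e
    exact e
  have hu5 : u ^ 5 ^ 1 = 1 := by rw [pow_one]; exact hfl _ F.words.1 F.powu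
  have hv5 : v ^ 5 ^ 1 = 1 := by rw [pow_one]; exact hfl _ F.words.2 F.powv
  have hcomm : v * u * v⁻¹ = u := by
    have e := C.sep.lw_ext (ltOK_append F.words.1 F.words.2) (ltOK_append F.words.2 F.words.1)
      F.comm
    rw [lw_append F.words.1 F.words.2, lw_append F.words.2 F.words.1] at e
    exact mul_inv_eq_iff_eq_mul.mpr e
  have hP1 : IsPGroup 5 (Subgroup.closure ({u} : Set SL)) := by
    rw [show ({u} : Set SL) = insert u ∅ from (insert_empty_eq u).symm]
    refine isPGroup_adjoin ?_ hu5 (fun c hc => hc.elim)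
    rw [Subgroup.closure_empty]
    exact IsPGroup.of_bot
  have hP : IsPGroup 5 (Subgroup.closure ({v, u} : Set SL)) :=
    isPGroup_adjoin hP1 hv5 fun c hc => by
      rw [Set.mem_singleton_iff.mp hc, hcomm]
      exact Subgroup.subset_closure rfl
  have hL : Nat.card SL = 251596800 := SL_card
  obtain ⟨g, hg⟩ := exists_conj_le (p := 5) (n := 2) _ hP H (by rw [hH]; norm_num)
    (by rw [hL]; norm_num)
  set H' := H.comap (MulAut.conj g).toMonoidHom with hH'
  have hH'c : Nat.card H' = 604800 := by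
    rw [← hH]
    exact Nat.card_congr
      { toFun := fun x => ⟨g * x.1 * g⁻¹, x.2⟩
        invFun := fun x => ⟨g⁻¹ * x.1 * g, by
          show g * (g⁻¹ * x.1 * g) * g⁻¹ ∈ H
          simp [mul_assoc]⟩
        left_inv := fun x => Subtype.ext (by simp [mul_assoc])
        right_inv := fun x => Subtype.ext (by simp [mul_assoc]) }
  have hu' : u ∈ H' := hg u (Subgroup.subset_closure (by simp))
  have hv' : v ∈ H' := hg v (Subgroup.subset_closure (by simp))
  have hz3 : IsPGroup 3 (Subgroup.closure ({zz} : Set SL)) := by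
    rw [show ({zz} : Set SL) = insert zz ∅ from (insert_empty_eq zz).symm]
    refine isPGroup_adjoin ?_ (n := 1) (by rw [pow_one]; exact C.zz_pow) (fun c hc => hc.elim)
    rw [Subgroup.closure_empty]
    exact IsPGroup.of_bot
  obtain ⟨k, hk⟩ := exists_conj_le (p := 3) (n := 3) _ hz3 H' (by rw [hH'c]; norm_num)
    (by rw [hL]; norm_num)
  have hst := eq_stab_p C F hH'c hu' hv' (⟨k, rfl⟩ : InC (k * zz * k⁻¹))
    (hk _ (Subgroup.subset_closure rfl))
  obtain ⟨l, hl⟩ : qq ⟨Q.p, F.p_lt⟩ ∈ orbit SL (47 : V0) := by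
    rw [orbit_47, pset_orb1]; exact ⟨_, rfl⟩
  refine ⟨g * l, ?_⟩
  ext x
  have := SetLike.ext_iff.mp hst (g⁻¹ * x * g)
  rw [hH', Subgroup.mem_comap, show (MulAut.conj g).toMonoidHom (g⁻¹ * x * g) = x by
    show g * (g⁻¹ * x * g) * g⁻¹ = x
    simp [mul_assoc], mem_stabilizer_iff, ← hl] at this
  rw [this, mem_stabilizer_iff]
  show _ ↔ x • (g * l) • (47 : V0) = (g * l) • (47 : V0)
  rw [mul_smul g l, mul_smul, mul_smul, inv_smul_eq_iff]

end Cfsg.Agent.Lib.SuzRank3
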